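import Cfsg.Agent.H371.IFx.TwMain
import Cfsg.Agent.H829.SzTwF
import Cfsg.Agent.S1068

/-!
# S5719: the row `²F₄(q)`, `q ≥ 8` (helper371)
-/

set_option autoImplicit false
set_option linter.unusedSectionVars false

namespace Cfsg.Agent.H371.IFx

open Subgroup Cfsg Cfsg.Agent.H209.Fxy
open Cfsg.Agent.SplitTwo Cfsg.Agent.SplitTwo.ZS Cfsg.Agent.TitsThree.RankTwoZ Cfsg.Agent.SplitTwo.RootSysZ
open Cfsg.Agent.KFacts.TwF4 Cfsg.Agent.KFacts.TwF4.Arc

theorem num_pl {q : ℕ} (hq : 8 ≤ q) : (q ^ 3 + 1) * (q ^ 6 + 1) * (q ^ 2 - 1) < q ^ 11 := by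
  have h0 : 1 ≤ q ^ 2 := Nat.one_le_pow _ _ (by omega)
  have h1 : (q ^ 3 + 1) * (q ^ 6 + 1) * (q ^ 2 - 1) + (q ^ 3 + 1) * (q ^ 6 + 1) = (q ^ 3 + 1) * (q ^ 6 + 1) * q ^ 2 := by
    rw [← Nat.mul_succ]
    congr 1
    omega
  have h2 : (q ^ 3 + 1) * (q ^ 6 + 1) * q ^ 2 = q ^ 11 + (q ^ 8 + q ^ 5 + q ^ 2) := by ring
  have h3 : (q ^ 3 + 1) * (q ^ 6 + 1) = q ^ 9 + q ^ 6 + q ^ 3 + 1 := by ring
  have h4 : q ^ 8 ≤ q ^ 9 := Nat.pow_le_pow_right (by omega) (by norm_num)
  have h5 : q ^ 5 ≤ q ^ 6 := Nat.pow_le_pow_right (by omega) (by norm_num)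
  have h6 : q ^ 2 ≤ q ^ 3 := Nat.pow_le_pow_right (by omega) (by norm_num)
  omega

theorem rowTF4 : Row fun T => Lie.Iso2F4 T := by
  intro T _ _ _ hna hT A Γ hA
  have hin : ∀ x : MulAut T, x ^ 2 = 1 → ∃ g : T, x = MulAut.conj g :=
    fun x hx => Cfsg.Agent.H829.SzTwF.inner_twF4 hT hx
  obtain ⟨F, iF, iF', m, hm, hK, ⟨e⟩⟩ := hT
  obtain ⟨φ, hφ⟩ := Cfsg.Agent.ChevalleyStructure.TwF4.TwistedFix.exists_rln hK
  have := Cfsg.Agent.ChevalleyStructure.TwF4.Twisted.charP_two hK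
  have hfin : Finite ↥(Lie.twistedF4 F (2 ^ m)) := inferInstance
  have hFc : Nat.card F = 2 ^ (2 * m + 1) := by rw [Nat.card_eq_fintype_card, hK]
  have h8 : 8 ≤ Nat.card F := by
    rw [hFc]
    calc 8 = 2 ^ 3 := by norm_num
      _ ≤ _ := Nat.pow_le_pow_right (by norm_num) (by omega)
  have hF : ∃ c : Fˣ, c ≠ 1 := by
    have h1 : 1 < Nat.card Fˣ := by
      rw [Nat.card_units]
      omega
    have h2 : Nontrivial Fˣ := Finite.one_lt_card_iff_nontrivial.1 h1
    exact exists_ne 1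
  obtain ⟨S, hS⟩ : ∃ S : Full φ ↥(Lie.twistedF4 F (2 ^ m)), S.R.p = 2 :=
    ⟨Cfsg.Agent.KFacts.TwF4.Inst.full hK hφ, rfl⟩
  have hcard : Nat.card ↥(Lie.twistedF4 F (2 ^ m)) = Nat.card F ^ 12 * (Nat.card F - 1) * (Nat.card F ^ 3 + 1) *
      (Nat.card F ^ 4 - 1) * (Nat.card F ^ 6 + 1) := by
    rw [hFc]; exact Cfsg.Agent.S1068.result hK
  have hsim : IsSimpleGroup ↥(Lie.twistedF4 F (2 ^ m)) := by
    have : Nontrivial ↥(Lie.twistedF4 F (2 ^ m)) := e.symm.toEquiv.nontrivial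
    exact IsSimpleGroup.isSimpleGroup_of_surjective e.toMonoidHom e.surjective
  have N : Tw.Num S :=
    { hF := hF
      hR := hS
      ex := ⟨2 * m + 1, by omega, hFc⟩
      pl := by
        have h1 := S.PL.card_mul_index
        rw [hcard, Cfsg.Agent.H496.TwEight.Card.card_PL' S hF] at h1
        generalize Nat.card F = q at h1 h8 ⊢
        have h4 : q ^ 4 - 1 = (q ^ 2 - 1) * (q * q + 1) := by
          obtain ⟨a, ha⟩ : ∃ a, q * q = a + 1 := ⟨q * q - 1, by
            have : 1 ≤ q * q := Nat.one_le_iff_ne_zero.2 (by positivity)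
            omega⟩
          have e4 : q ^ 4 = (q * q) * (q * q) := by ring
          have e2 : q ^ 2 = q * q := by ring
          rw [e4, e2, ha, Nat.add_sub_cancel]
          have : (a + 1) * (a + 1) = a * (a + 1 + 1) + 1 := by ring
          rw [this, Nat.add_sub_cancel]
        have h5 : 0 < q ^ 12 * (q - 1) * (q * q + 1) := by
          have : 0 < q - 1 := by omega
          positivity
        have h6 : q ^ 12 * (q - 1) * (q * q + 1) * S.PL.index =
            q ^ 12 * (q - 1) * (q * q + 1) * ((q ^ 3 + 1) * (q ^ 6 + 1) * (q ^ 2 - 1)) := by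
          rw [h1, h4]
          ring
        rw [Nat.eq_of_mul_eq_mul_left h5 h6]
        exact num_pl h8
      ho := by
        have h1 := S.HO.card_mul_index
        rw [hcard, Cfsg.Agent.H496.TwEight.Card.card_HO' S hF] at h1
        generalize Nat.card F = q at h1 h8 ⊢
        have hq1 : 0 < q - 1 := by omega
        have h5 : 0 < q ^ 10 * (q - 1) * (q + 1) := by positivity
        refine Nat.lt_of_mul_lt_mul_left (a := q ^ 10 * (q - 1) * (q + 1)) ?_
        rw [h1]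
        have k1 : q ^ 3 + 1 ≤ (q + 1) * q ^ 2 := by
          have : (q + 1) * q ^ 2 = q ^ 3 + q ^ 2 := by ring
          rw [this]
          have : 1 ≤ q ^ 2 := Nat.one_le_pow _ _ (by omega)
          omega
        have k2 : q ^ 4 - 1 < q ^ 4 := by
          have : 1 ≤ q ^ 4 := Nat.one_le_pow _ _ (by omega)
          omega
        have k3 : q ^ 6 + 1 ≤ q ^ 7 := by
          have h6 : q ^ 7 = q ^ 6 * q := by ring
          have h7 : 1 ≤ q ^ 6 := Nat.one_le_pow _ _ (by omega)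
          have h8' : q ^ 6 * 2 ≤ q ^ 6 * q := Nat.mul_le_mul_left _ (by omega)
          omega
        calc q ^ 12 * (q - 1) * (q ^ 3 + 1) * (q ^ 4 - 1) * (q ^ 6 + 1) ≤
            q ^ 12 * (q - 1) * ((q + 1) * q ^ 2) * (q ^ 4 - 1) * q ^ 7 :=
              Nat.mul_le_mul (Nat.mul_le_mul_right _ (Nat.mul_le_mul_left _ k1)) k3
          _ < q ^ 12 * (q - 1) * ((q + 1) * q ^ 2) * q ^ 4 * q ^ 7 := by
              apply Nat.mul_lt_mul_of_pos_right _ (by positivity)
              exact Nat.mul_lt_mul_of_pos_left k2 (by positivity)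
          _ = q ^ 10 * (q - 1) * (q + 1) * q ^ 15 := by ring
      hna := by
        by_contra hcon
        push Not at hcon
        apply hna
        exact ⟨⟨fun a b => e.injective (by rw [map_mul, map_mul, hcon])⟩⟩ }
  refine Tw.row_full N (fun τ hτ => ?_) (hA.map e)
  obtain ⟨g, hg⟩ := hin ((MulAut.congr e).symm τ) (by rw [← map_pow, hτ, map_one])
  refine ⟨e g, ?_⟩
  have h1 : τ = MulAut.congr e (MulAut.conj g) := by rw [← hg, MulEquiv.apply_symm_apply]
  rw [h1]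
  ext x
  simp [MulAut.congr]

end Cfsg.Agent.H371.IFx
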