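import Cfsg.Agent.H371.IFx.Base
import Cfsg.Agent.H999.IF.EngB
import Cfsg.Agent.H209.IF.Kill
import Cfsg.Agent.H57.TTRee
import Cfsg.Agent.S0806
import Cfsg.Agent.S2127
import Cfsg.Agent.H947.Cyc.Psl2
import Cfsg.Agent.H829.SzTwF

/-!
# S5719: the row `²G₂(q)`, `q = 3^(2m+1) ≥ 27` (helper371)

* `all_cent` : `C(t) ≤ A` for every involution `t` of `A` (`|C(t) : C_A(t)| < q + 1` and the minimal index of `L₂(q)`);
* `strong` : then `y⁻¹ t y ∈ A` implies `y ∈ A` (the normaliser of a Sylow 2-subgroup lies in `A`), so that `t` has one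
  fixed point.
-/

set_option autoImplicit false
set_option linter.unusedSectionVars false

namespace Cfsg.Agent.H371.IFx.Ree

open Subgroup Cfsg Cfsg.Agent.H209.Fxy Cfsg.Agent.H999.IFB

section strong

variable {T : Type} [Group T] [Finite T] {A : Subgroup T}

theorem card_subset {S : Subgroup T} (h8 : Nat.card S = 8) : Nat.card {y : T // y ∈ S ∧ y ≠ 1} = 7 := by
  classical
  have h1 : Nat.card {y : T // y ∈ S ∧ y ≠ 1} = ((S : Set T) \ {1}).ncard := rfl
  have h2 : ((S : Set T) \ {1}).ncard + 1 = (S : Set T).ncard :=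
    Set.ncard_sdiff_singleton_add_one (show (1 : T) ∈ (S : Set T) from S.one_mem) (Set.toFinite _)
  have h3 : (S : Set T).ncard = 8 := h8
  omega

theorem strong (hC : ∀ t ∈ A, orderOf t = 2 → centralizer ({t} : Set T) ≤ A)
    (hconj : ∀ s t : T, orderOf s = 2 → orderOf t = 2 → IsConj s t)
    (hS : ∀ S : Sylow 2 T, Nat.card S = 8 ∧ ∀ x ∈ S, x * x = 1)
    (hN : ∀ S : Sylow 2 T, centralizer ((S : Subgroup T) : Set T) = S ∧
      Nat.card (normalizer ((S : Subgroup T) : Set T)) = 168)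
    {t : T} (htA : t ∈ A) (ho : orderOf t = 2) {y : T} (hy : y⁻¹ * t * y ∈ A) : y ∈ A := by
  have hp : Fact (Nat.Prime 2) := ⟨Nat.prime_two⟩
  have hcomm : ∀ S : Sylow 2 T, ∀ x ∈ S, ∀ z ∈ S, x * z = z * x := by
    intro S x hx z hz
    have h1 := (hS S).2 _ (S.mul_mem hx hz)
    have h2 := (hS S).2 x hx
    have h3 := (hS S).2 z hz
    calc x * z = x * (x * z * (x * z)) * z := by rw [h1, mul_one]
      _ = (x * x) * (z * x) * (z * z) := by group
      _ = z * x := by rw [h2, h3, one_mul, mul_one]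
  have hord : ∀ S : Sylow 2 T, ∀ x ∈ S, x ≠ 1 → orderOf x = 2 := fun S x hx hx1 =>
    orderOf_eq_prime (by rw [pow_two]; exact (hS S).2 x hx) hx1
  -- Sylow subgroups meeting `A`
  have hsy : ∀ s ∈ A, orderOf s = 2 → ∃ S : Sylow 2 T, s ∈ S ∧ (S : Subgroup T) ≤ A := by
    intro s hs hso
    have hz : IsPGroup 2 (zpowers s) := IsPGroup.of_card (n := 1) (by rw [Nat.card_zpowers, hso, pow_one])
    obtain ⟨S, hSs⟩ := hz.exists_le_sylow
    have hsS : s ∈ S := hSs (mem_zpowers s)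
    refine ⟨S, hsS, fun x hx => hC s hs hso ?_⟩
    rw [mem_centralizer_singleton_iff]
    exact hcomm S x hx s hsS
  -- the normaliser of a Sylow subgroup in `A`
  have hNA : ∀ S : Sylow 2 T, (S : Subgroup T) ≤ A → normalizer ((S : Subgroup T) : Set T) ≤ A := by
    intro S hSA
    obtain ⟨h8, -⟩ := hS S
    have h8' : Nat.card (S : Subgroup T) = 8 := h8
    obtain ⟨hCS, h168⟩ := hN S
    set N := normalizer ((S : Subgroup T) : Set T) with hNd
    have hcent : ∀ e ∈ S, e ≠ 1 → Nat.card ↥(N ⊓ centralizer {e}) = 24 := by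
      intro e he he1
      have h1 := Cfsg.Agent.LieRecognition.ReeInv.card_orbit_conj N e
      have h2 : Nat.card {y : T // ∃ n ∈ N, n * e * n⁻¹ = y} = 7 := by
        rw [← card_subset h8']
        refine Nat.card_congr (Equiv.subtypeEquivRight fun z => ?_)
        constructor
        · rintro ⟨n, hn, rfl⟩
          refine ⟨(mem_normalizer_iff.1 hn e).1 he, fun h => he1 ?_⟩
          rw [mul_inv_eq_one] at h
          exact mul_left_cancel (h.trans (mul_one n).symm)
        · rintro ⟨hz, hz1⟩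
          obtain ⟨g, hg⟩ := isConj_iff.1 (hconj e z (hord S e he he1) (hord S z hz hz1))
          have hz' : g⁻¹⁻¹ * e * g⁻¹ = z := by rw [inv_inv]; exact hg
          obtain ⟨n, hn, hne⟩ := S.conj_eq_normalizer_conj_of_mem_centralizer e g⁻¹
            (by
              rw [mem_centralizer_iff]
              intro x hx
              exact hcomm S x hx e he)
            (by
              rw [hz', mem_centralizer_iff]
              intro x hx
              exact hcomm S x hx z hz)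
          refine ⟨n⁻¹, inv_mem hn, ?_⟩
          rw [inv_inv, ← hne, hz']
      rw [h2, h168] at h1
      omega
    have hle : ∀ e ∈ S, e ≠ 1 → N ⊓ centralizer {e} ≤ A ⊓ N := by
      intro e he he1
      exact le_inf (inf_le_right.trans (hC e (hSA he) (hord S e he he1))) inf_le_left
    obtain ⟨⟨e, heS⟩, he1⟩ : ∃ e : (S : Subgroup T), e ≠ 1 := by
      have : Nontrivial (S : Subgroup T) := Finite.one_lt_card_iff_nontrivial.1 (by omega)
      exact exists_ne 1
    have he1' : e ≠ 1 := fun h => he1 (Subtype.ext h)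
    have hd1 : 24 ∣ Nat.card ↥(A ⊓ N) := by
      rw [← hcent e heS he1']
      exact card_dvd_of_le (hle e heS he1')
    have hd2 : Nat.card ↥(A ⊓ N) ∣ 168 := by
      rw [← h168]
      exact card_dvd_of_le inf_le_right
    obtain ⟨k, hk⟩ := hd1
    have hk7 : k ∣ 7 := by
      rw [hk] at hd2
      exact Nat.dvd_of_mul_dvd_mul_left (k := 24) (by norm_num) (by simpa using hd2)
    rcases (Nat.dvd_prime (by norm_num : Nat.Prime 7)).1 hk7 with rfl | rfl
    · exfalso
      rw [mul_one] at hk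
      have heq : ∀ e ∈ S, e ≠ 1 → N ⊓ centralizer {e} = A ⊓ N := fun e he he1 =>
        Subgroup.eq_of_le_of_card_ge (hle e he he1) (by rw [hk, hcent e he he1])
      have h1 : A ⊓ N ≤ (S : Subgroup T) := by
        rw [← hCS]
        intro d hd
        rw [mem_centralizer_iff]
        intro e he
        by_cases he1 : e = 1
        · rw [he1, one_mul, mul_one]
        · rw [← heq e he he1] at hd
          exact (mem_centralizer_singleton_iff.1 hd.2).symm
      have h2 := card_le_of_le h1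
      omega
    · have h1 : A ⊓ N = N := Subgroup.eq_of_le_of_card_ge inf_le_right (by rw [hk, h168])
      rw [← h1]
      exact inf_le_left
  obtain ⟨S, htS, hSA⟩ := hsy t htA ho
  have ho' : orderOf (y⁻¹ * t * y) = 2 := by
    have h1 := (MulAut.conj y⁻¹).orderOf_eq t
    rw [MulAut.conj_apply, inv_inv] at h1
    rw [h1, ho]
  obtain ⟨S', htS', hSA'⟩ := hsy _ hy ho'
  -- conjugate in `A`
  obtain ⟨a, ha⟩ := MulAction.exists_smul_eq A (S'.subtype hSA') (S.subtype hSA)
  have hta : (a : T) * (y⁻¹ * t * y) * (a : T)⁻¹ ∈ S := by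
    have h1 : (⟨y⁻¹ * t * y, hy⟩ : A) ∈ S'.subtype hSA' := htS'
    have h2 : a • (⟨y⁻¹ * t * y, hy⟩ : A) = a * ⟨y⁻¹ * t * y, hy⟩ := rfl
    have h3 : a * ⟨y⁻¹ * t * y, hy⟩ * a⁻¹ ∈ S.subtype hSA := by
      rw [← ha]
      exact ⟨⟨y⁻¹ * t * y, hy⟩, h1, rfl⟩
    exact h3
  obtain ⟨n, hn, hne⟩ := S.conj_eq_normalizer_conj_of_mem_centralizer t (y * (a : T)⁻¹)
    (by
      rw [mem_centralizer_iff]
      intro x hx
      exact hcomm S x hx t htS)
    (by
      have e : (y * (a : T)⁻¹)⁻¹ * t * (y * (a : T)⁻¹) = (a : T) * (y⁻¹ * t * y) * (a : T)⁻¹ := by group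
      rw [e, mem_centralizer_iff]
      intro x hx
      exact hcomm S x hx _ hta)
  have h1 : (y * (a : T)⁻¹) * n⁻¹ ∈ centralizer ({t} : Set T) := by
    rw [mem_centralizer_singleton_iff]
    calc y * (a : T)⁻¹ * n⁻¹ * t = y * (a : T)⁻¹ * (n⁻¹ * t * n) * n⁻¹ := by group
      _ = y * (a : T)⁻¹ * ((y * (a : T)⁻¹)⁻¹ * t * (y * (a : T)⁻¹)) * n⁻¹ := by rw [hne]
      _ = _ := by group
  have h2 := hC t htA ho h1
  have h3 : y = y * (a : T)⁻¹ * n⁻¹ * n * a := by group
  rw [h3]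
  exact A.mul_mem (A.mul_mem h2 (hNA S hSA hn)) a.2

end strong

section model

variable {K : Type} [Field K] [Fintype K] {m : ℕ} {A : Subgroup ↥(Lie.twistedG2 K (3 ^ m))}
  {Γ : Subgroup (MulAut ↥(Lie.twistedG2 K (3 ^ m)))}

theorem all_cent (hm : 1 ≤ m) (hK : Fintype.card K = 3 ^ (2 * m + 1)) [Finite ↥(Lie.twistedG2 K (3 ^ m))]
    [IsSimpleGroup ↥(Lie.twistedG2 K (3 ^ m))]
    (hna : ∃ a b : ↥(Lie.twistedG2 K (3 ^ m)), a * b ≠ b * a) (h : IF A Γ) {t : ↥(Lie.twistedG2 K (3 ^ m))}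
    (htA : t ∈ A) (ho : orderOf t = 2) : centralizer ({t} : Set ↥(Lie.twistedG2 K (3 ^ m))) ≤ A := by
  classical
  set C := centralizer ({t} : Set ↥(Lie.twistedG2 K (3 ^ m))) with hCd
  obtain ⟨e⟩ := Cfsg.Agent.H57.TTRee.ree_cent hm hK t ho
  have hq27 : 27 ≤ Fintype.card K := by
    rw [hK]
    calc 27 = 3 ^ 3 := by norm_num
      _ ≤ _ := Nat.pow_le_pow_right (by norm_num) (by omega)
  have hodd : Odd (Fintype.card K) := by rw [hK]; exact Odd.pow (by decide)
  have hP := Cfsg.Agent.ClassicalGeometry.PSL2Basic.card_PSL2_odd (F := K) hodd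
  have hCc : Nat.card C = Fintype.card K * (Fintype.card K ^ 2 - 1) := by
    rw [Nat.card_congr e.toEquiv, Nat.card_prod, ← hP]
    congr 1
    rw [Nat.card_congr Multiplicative.toAdd, Nat.card_zmod]
  have hcard := Cfsg.Agent.ChevalleyStructure.ReeCount.card_twistedG2 hK
  -- the index of the centraliser
  have hCi : C.index < Fintype.card K ^ 5 := by
    have h1 := C.card_mul_index
    rw [hCc, hcard, ← hK] at h1
    generalize Fintype.card K = q at h1 hq27 ⊢
    have h2 : 0 < q ^ 2 - 1 := by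
      have : 2 ^ 2 ≤ q ^ 2 := Nat.pow_le_pow_left (by omega) 2
      omega
    refine Nat.lt_of_mul_lt_mul_left (a := q * (q ^ 2 - 1)) ?_
    rw [h1]
    have e2 : q ^ 2 - 1 = (q - 1) * (q + 1) := by
      obtain ⟨r, rfl⟩ : ∃ r, q = r + 1 := ⟨q - 1, by omega⟩
      rw [Nat.add_sub_cancel]
      have : (r + 1) ^ 2 = r * (r + 1 + 1) + 1 := by ring
      rw [this, Nat.add_sub_cancel]
    rw [e2]
    have h3 : 0 < q - 1 := by omega
    have h4 : q ^ 3 + 1 < (q + 1) * q ^ 3 := by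
      have h5 : (q + 1) * q ^ 3 = q ^ 3 * q + q ^ 3 := by ring
      have h6 : 1 ≤ q ^ 3 := Nat.one_le_pow _ _ (by omega)
      have h7 : q ^ 3 * 2 ≤ q ^ 3 * q := Nat.mul_le_mul_left _ (by omega)
      omega
    calc q ^ 3 * (q - 1) * (q ^ 3 + 1) < q ^ 3 * (q - 1) * ((q + 1) * q ^ 3) :=
          Nat.mul_lt_mul_of_pos_left h4 (by positivity)
      _ = q * ((q - 1) * (q + 1)) * q ^ 5 := by ring
  obtain ⟨-, -, -, -, h5⟩ := IF.E2' h hna htA ho
  have h6 := (h5 C le_rfl).1.trans hCi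
  have h7 : A.relIndex C < Fintype.card K + 1 := by
    have := lt_of_pow_lt_pow_left₀ 5 (Nat.zero_le _) h6
    omega
  -- the subgroup of `L₂(q) × 2`
  let X : Subgroup (Matrix.ProjectiveSpecialLinearGroup (Fin 2) K × Multiplicative (ZMod 2)) :=
    (A.subgroupOf C).map e.toMonoidHom
  have hXi : X.index = A.relIndex C := Subgroup.index_map_of_bijective e.bijective _
  let Y : Subgroup (Matrix.ProjectiveSpecialLinearGroup (Fin 2) K) :=
    X.comap (MonoidHom.inl (Matrix.ProjectiveSpecialLinearGroup (Fin 2) K) (Multiplicative (ZMod 2)))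
  have hfinP : Finite (Matrix.ProjectiveSpecialLinearGroup (Fin 2) K × Multiplicative (ZMod 2)) :=
    Finite.of_equiv _ e.toEquiv
  have hYi : Y.index ≤ X.index := by
    rw [Subgroup.index_comap]
    calc X.relIndex (MonoidHom.inl (Matrix.ProjectiveSpecialLinearGroup (Fin 2) K) (Multiplicative (ZMod 2))).range ≤
        X.relIndex ⊤ := Subgroup.relIndex_le_of_le_right le_top (by
          rw [Subgroup.relIndex_top_right]
          exact Subgroup.index_ne_zero_of_finite)
      _ = X.index := Subgroup.relIndex_top_right _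
  have hY : Y = ⊤ := by
    by_contra hne
    have h8 := (Cfsg.Agent.S0806.result (F := K) rfl (by
      simp only [Finset.mem_insert, Finset.mem_singleton]
      omega)).1 Y hne
    omega
  have hYX : ∀ p : Matrix.ProjectiveSpecialLinearGroup (Fin 2) K, (p, (1 : Multiplicative (ZMod 2))) ∈ X := by
    intro p
    have : p ∈ Y := by rw [hY]; exact mem_top p
    exact this
  have htC : t ∈ C := mem_centralizer_singleton_iff.2 rfl
  have htX : e ⟨t, htC⟩ ∈ X := ⟨⟨t, htC⟩, htA, rfl⟩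
  -- `e t = (1, z)`, `z ≠ 1`
  have hte1 : (e ⟨t, htC⟩).1 = 1 := by
    have hcen : (e ⟨t, htC⟩).1 ∈ center (Matrix.ProjectiveSpecialLinearGroup (Fin 2) K) := by
      rw [mem_center_iff]
      intro g
      have h8 : (⟨t, htC⟩ : C) * e.symm (g, 1) = e.symm (g, 1) * ⟨t, htC⟩ := by
        apply Subtype.ext
        exact (mem_centralizer_singleton_iff.1 (e.symm (g, 1)).2).symm
      have h9 := congrArg (fun x => (e x).1) h8
      simp only [map_mul, MulEquiv.apply_symm_apply, Prod.fst_mul] at h9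
      exact h9.symm
    rw [(Cfsg.Agent.H947.Cyc.psl2_facts (F := K) (by omega)).2, mem_bot] at hcen
    exact hcen
  have hte2 : (e ⟨t, htC⟩).2 ≠ 1 := by
    intro h8
    have h9 : e ⟨t, htC⟩ = 1 := Prod.ext hte1 h8
    have h10 : (⟨t, htC⟩ : C) = 1 := by
      apply e.injective
      rw [h9, map_one]
    have h11 : t = 1 := congrArg Subtype.val h10
    rw [h11, orderOf_one] at ho
    omega
  have hz : ∀ z : Multiplicative (ZMod 2), ((1 : Matrix.ProjectiveSpecialLinearGroup (Fin 2) K), z) ∈ X := by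
    intro z
    by_cases hz1 : z = 1
    · rw [hz1]; exact one_mem _
    · have h8 : ∀ a b : Multiplicative (ZMod 2), a ≠ 1 → b ≠ 1 → a = b := by decide
      have h9 : e ⟨t, htC⟩ = (1, z) := Prod.ext hte1 (h8 _ _ hte2 hz1)
      rw [← h9]
      exact htX
  intro c hc
  have h8 : e ⟨c, hc⟩ ∈ X := by
    have h9 : e ⟨c, hc⟩ = ((e ⟨c, hc⟩).1, (1 : Multiplicative (ZMod 2))) * (1, (e ⟨c, hc⟩).2) := by
      rw [Prod.mk_mul_mk, mul_one, one_mul]
    rw [h9]
    exact mul_mem (hYX _) (hz _)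
  obtain ⟨c', hc', he⟩ := h8
  have h9 : c' = ⟨c, hc⟩ := e.injective he
  rw [h9] at hc'
  exact hc'

end model

theorem rowRee : Row fun T => Lie.IsoRee T := by
  intro T _ _ _ hna hT A Γ hA
  obtain ⟨K, iK, iK', m, hm, hK, ⟨e⟩⟩ := hT
  have hfin : Finite ↥(Lie.twistedG2 K (3 ^ m)) := Finite.of_equiv _ e.toEquiv
  have hsim : IsSimpleGroup ↥(Lie.twistedG2 K (3 ^ m)) := by
    have : Nontrivial ↥(Lie.twistedG2 K (3 ^ m)) := e.symm.toEquiv.nontrivial
    exact IsSimpleGroup.isSimpleGroup_of_surjective e.toMonoidHom e.surjective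
  have hna' : ∃ a b : ↥(Lie.twistedG2 K (3 ^ m)), a * b ≠ b * a := by
    by_contra hcon
    push Not at hcon
    apply hna
    exact ⟨⟨fun a b => e.injective (by rw [map_mul, map_mul, hcon])⟩⟩
  have h := hA.map e
  obtain ⟨τ, hτ, ho, h3⟩ := h.ex
  -- `τ` is inner
  obtain ⟨t, rfl⟩ : ∃ t, τ = MulAut.conj t := by
    have h1 := Cfsg.Agent.S2127.result (K := K) hm hK
    have hy2 : (QuotientGroup.mk τ : Cfsg.Out ↥(Cfsg.Lie.twistedG2 K (3 ^ m))) ^ 2 = 1 := by
      rw [← QuotientGroup.mk_pow]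
      have : τ ^ 2 = 1 := by rw [← ho]; exact pow_orderOf_eq_one τ
      rw [this, QuotientGroup.mk_one]
    have h2 := orderOf_dvd_of_pow_eq_one hy2
    have h3 := orderOf_dvd_natCard (QuotientGroup.mk τ : Cfsg.Out ↥(Cfsg.Lie.twistedG2 K (3 ^ m)))
    rw [h1] at h3
    have h4 : orderOf (QuotientGroup.mk τ : Cfsg.Out ↥(Cfsg.Lie.twistedG2 K (3 ^ m))) = 1 := by
      have h5 := Nat.dvd_gcd h2 h3
      have h6 : Nat.gcd 2 (2 * m + 1) = 1 := by
        rw [← Nat.coprime_iff_gcd_eq_one, Nat.coprime_two_left]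
        exact ⟨m, rfl⟩
      rw [h6] at h5
      exact Nat.dvd_one.1 h5
    rw [orderOf_eq_one_iff] at h4
    obtain ⟨g, hg⟩ := (QuotientGroup.eq_one_iff τ).1 h4
    exact ⟨g, hg.symm⟩
  have htA := (h.conj t).1 hτ
  have hto : orderOf t = 2 := by rw [← orderOf_conj hna' t, ho]
  obtain ⟨a, haH, ha1, ha2⟩ := Cfsg.Agent.S1157.exists_involution hK
  obtain ⟨-, hS⟩ := Cfsg.Agent.S1152.result hK a haH ha1 ha2
  have hfx : fixSet (A.map e.toMonoidHom) (MulAut.conj t) ⊆
      {((1 : ↥(Lie.twistedG2 K (3 ^ m))) : ↥(Lie.twistedG2 K (3 ^ m)) ⧸ A.map e.toMonoidHom)} := by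
    rintro _ ⟨y, rfl, hy⟩
    have h1 : y⁻¹ * (t * y * t⁻¹) ∈ A.map e.toMonoidHom := hy
    have h2 : y⁻¹ * t * y ∈ A.map e.toMonoidHom := by
      have e1 : y⁻¹ * t * y = y⁻¹ * (t * y * t⁻¹) * t := by group
      rw [e1]
      exact mul_mem h1 htA
    have h4 : y ∈ A.map e.toMonoidHom := strong (fun s hs hso => all_cent hm hK hna' h hs hso)
      (fun s t hs ht => Cfsg.Agent.H57.TTRee.ree_conj hm hK s t hs ht) hS
      (fun S => Cfsg.Agent.S1157.result hm hK S) htA hto h2
    rw [Set.mem_singleton_iff]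
    exact (QuotientGroup.eq.2 (by rw [inv_one, one_mul]; exact h4)).symm
  have h4 : fx (A.map e.toMonoidHom) (MulAut.conj t) ≤ 1 := by
    rw [fx, ← Set.ncard_singleton
      ((1 : ↥(Lie.twistedG2 K (3 ^ m))) : ↥(Lie.twistedG2 K (3 ^ m)) ⧸ A.map e.toMonoidHom)]
    exact Set.ncard_le_ncard hfx (Set.toFinite _)
  omega

end Cfsg.Agent.H371.IFx.Ree
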