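import Cfsg.Agent.H371.IFx.Base
import Cfsg.Agent.H829.SzTwF
import Cfsg.Agent.H803.RankOneFacts
import Cfsg.Agent.S2251
import Cfsg.Agent.S2247
import Cfsg.Agent.H98.SzPartition
import Cfsg.Agent.OddCyclic.ClaimC.SzIso

/-!
# S5719: the row `Sz(q)` (helper371)
-/

set_option autoImplicit false
set_option linter.unusedSectionVars false

namespace Cfsg.Agent.H371.IFx

open MulAction Subgroup Cfsg.Agent.H284 Cfsg.Agent.H209.Fxy

section Cyc

variable {X : Type*} [Group X] [Finite X]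

/-- A 2-group of exponent dividing 4 acting on a cyclic group `U ≠ 1` without fixed points has order at most 4. -/
theorem card_le_four {R U : Subgroup X} (hR : ∀ r ∈ R, r ^ 4 = 1) (hU : IsCyclic U) (hU1 : Nat.card U ≠ 1)
    (hN : R ≤ normalizer (U : Set X)) (hfix : ∀ u ∈ U, u ≠ 1 → ∀ r ∈ R, r * u = u * r → r = 1) :
    Nat.card R ≤ 4 := by
  obtain ⟨l, hl, hlU⟩ := Nat.exists_prime_and_dvd hU1
  have hlF : Fact l.Prime := ⟨hl⟩
  obtain ⟨⟨u, huU⟩, hu⟩ := exists_prime_orderOf_dvd_card' (G := U) l hlU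
  have hu' : orderOf u = l := by rw [← hu, Subgroup.orderOf_mk]
  set L := zpowers u with hL
  have hcL : Nat.card L = l := by rw [hL, Nat.card_zpowers, hu']
  have hRL : R ≤ normalizer (L : Set X) := by
    have h1 : ∀ r ∈ R, ∀ x ∈ L, r * x * r⁻¹ ∈ L := by
      intro r hr x hx
      have hrU := fun y hy => (mem_normalizer_iff.1 (hN hr) y).1 hy
      let f : U →* U :=
        { toFun := fun y => ⟨r * y * r⁻¹, hrU y y.2⟩
          map_one' := Subtype.ext (by simp)
          map_mul' := fun a b => Subtype.ext (by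
            show r * ((a : X) * b) * r⁻¹ = r * a * r⁻¹ * (r * b * r⁻¹)
            group) }
      obtain ⟨k, hk⟩ := MonoidHom.map_cyclic f
      obtain ⟨j, rfl⟩ := hx
      have h2 := congrArg Subtype.val (hk ⟨u, huU⟩)
      have h3 : r * u * r⁻¹ = u ^ k := h2
      have h4 : r * (u ^ j) * r⁻¹ = (u ^ k) ^ j := by
        rw [← h3, conj_zpow]
      show r * (u ^ j) * r⁻¹ ∈ L
      rw [h4]
      exact zpow_mem (zpow_mem (mem_zpowers u) k) j
    intro r hr
    rw [mem_normalizer_iff]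
    intro x
    refine ⟨h1 r hr x, fun hx => ?_⟩
    have := h1 r⁻¹ (inv_mem hr) _ hx
    have e : r⁻¹ * (r * x * r⁻¹) * r⁻¹⁻¹ = x := by group
    rwa [e] at this
  let φ : R →* MulAut L := (normalizerMonoidHom L).comp (Subgroup.inclusion hRL)
  have hφ : Function.Injective φ := by
    rw [injective_iff_map_eq_one]
    intro r hr
    have h1 : (φ r ⟨u, mem_zpowers u⟩ : L) = ⟨u, mem_zpowers u⟩ := by rw [hr, MulAut.one_apply]
    have h2 : (r : X) * u * (r : X)⁻¹ = u := congrArg Subtype.val h1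
    have hu1 : u ≠ 1 := by
      intro e
      rw [e, orderOf_one] at hu'
      exact hl.one_lt.ne hu'
    exact Subtype.ext (hfix u huU hu1 r r.2 (by rwa [mul_inv_eq_iff_eq_mul] at h2))
  have hLc : IsCyclic L := by rw [hL]; infer_instance
  let ψ : R →* (ZMod (Nat.card L))ˣ := (IsCyclic.mulAutMulEquiv L).toMonoidHom.comp φ
  have hψ : Function.Injective ψ := (IsCyclic.mulAutMulEquiv L).injective.comp hφ
  have hcyc : IsCyclic (ZMod (Nat.card L))ˣ := by
    rw [hcL]
    infer_instance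
  have hRc : IsCyclic R := isCyclic_of_injective ψ hψ
  have h4 : Monoid.exponent R ∣ 4 := Monoid.exponent_dvd_of_forall_pow_eq_one fun r => Subtype.ext (hR r r.2)
  rw [IsCyclic.exponent_eq_card] at h4
  exact Nat.le_of_dvd (by norm_num) h4

end Cyc

section Model

open Cfsg.Agent.LieExceptional Cfsg.Agent.LieExceptional.SuzukiSylow Cfsg.Agent.H98.SzBasic Cfsg.Agent.H98.SzPartition
open Cfsg.Agent.H803.RankOneFacts
open scoped Pointwise

variable {F : Type} [Field F] [Fintype F] {m : ℕ}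

theorem card_lt (hm : 1 ≤ m) (hF : Fintype.card F = 2 ^ (2 * m + 1)) :
    Nat.card (Cfsg.Sz F m) < (2 ^ (2 * m + 1)) ^ 5 := by
  rw [card_Sz hm hF]
  have h8 : 8 ≤ 2 ^ (2 * m + 1) := by
    calc 8 = 2 ^ 3 := by norm_num
      _ ≤ _ := Nat.pow_le_pow_right (by norm_num) (by omega)
  generalize 2 ^ (2 * m + 1) = q at h8
  obtain ⟨r, rfl⟩ : ∃ r, q = r + 1 := ⟨q - 1, by omega⟩
  rw [Nat.add_sub_cancel]
  have h1 : ((r + 1) ^ 2 + 1) * r < (r + 1) ^ 3 := by ring_nf; omega
  calc ((r + 1) ^ 2 + 1) * ((r + 1) ^ 2 * r) = (((r + 1) ^ 2 + 1) * r) * (r + 1) ^ 2 := by ring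
    _ < (r + 1) ^ 3 * (r + 1) ^ 2 := Nat.mul_lt_mul_of_pos_right h1 (by positivity)
    _ = (r + 1) ^ 5 := by ring

/-- facts on a Sylow 2-subgroup -/
theorem sylow_facts (hm : 1 ≤ m) (hF : Fintype.card F = 2 ^ (2 * m + 1)) (P : Sylow 2 (Cfsg.Sz F m)) :
    Nat.card P = (2 ^ (2 * m + 1)) ^ 2 ∧ (∀ r ∈ P, r ^ 4 = 1) ∧
    ∀ t ∈ P, t ^ 2 = 1 → ∀ b ∈ P, t * b = b * t := by
  have : Fact (Nat.Prime 2) := ⟨Nat.prime_two⟩
  have hfin := finite_ovoid F m
  obtain ⟨g, rfl⟩ := exists_smul_eq (Cfsg.Sz F m) (sylowQ hm hF) P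
  have hmem : ∀ x, x ∈ g • sylowQ hm hF ↔ g⁻¹ * x * g ∈ Q hF := fun x => mem_smul_iff
  refine ⟨?_, ?_, ?_⟩
  · rw [Nat.card_congr (Sylow.equiv (g • sylowQ hm hF) (sylowQ hm hF)).toEquiv]
    exact card_Q hF
  · intro r hr
    obtain ⟨a, b, hab⟩ := exists_qu hF ⟨g⁻¹ * r * g, (hmem r).1 hr⟩
    have h1 := qu_pow_four hF a b
    rw [← hab] at h1
    have h2 : (g⁻¹ * r * g) ^ 4 = 1 := congrArg Subtype.val h1
    have h3 : (g⁻¹ * r * g) ^ 4 = g⁻¹ * r ^ 4 * g := by
      have := conj_pow (a := g⁻¹) (b := r) (i := 4)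
      rw [inv_inv] at this
      exact this
    rw [h3] at h2
    have h4 : r ^ 4 = g * (g⁻¹ * r ^ 4 * g) * g⁻¹ := by group
    rw [h4, h2]
    group
  · intro t ht ht2 b hb
    obtain ⟨c, d, hcd⟩ := exists_qu hF ⟨g⁻¹ * t * g, (hmem t).1 ht⟩
    have h1 : (qu hF c d) ^ 2 = 1 := by
      rw [← hcd]
      apply Subtype.ext
      show (g⁻¹ * t * g) ^ 2 = 1
      have h3 : (g⁻¹ * t * g) ^ 2 = g⁻¹ * t ^ 2 * g := by
        have := conj_pow (a := g⁻¹) (b := t) (i := 2)
        rw [inv_inv] at this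
        exact this
      rw [h3, ht2]
      group
    rw [qu_sq, ← qu_zero_zero, qu_eq_iff] at h1
    have hc : c = 0 := by
      rcases mul_eq_zero.1 h1.2 with h2 | h2
      · exact (pow_eq_zero_iff (by positivity)).1 h2
      · exact h2
    have hz : (⟨g⁻¹ * t * g, (hmem t).1 ht⟩ : Q hF) ∈ center (Q hF) := by
      rw [mem_center_Q_iff hm hF]
      exact ⟨d, by rw [hcd, hc]⟩
    have h5 := congrArg Subtype.val (mem_center_iff.1 hz ⟨g⁻¹ * b * g, (hmem b).1 hb⟩)
    have h6 : g⁻¹ * b * g * (g⁻¹ * t * g) = g⁻¹ * t * g * (g⁻¹ * b * g) := h5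
    have h7 : g * (g⁻¹ * b * g * (g⁻¹ * t * g)) * g⁻¹ = g * (g⁻¹ * t * g * (g⁻¹ * b * g)) * g⁻¹ := by rw [h6]
    have h8 : g * (g⁻¹ * b * g * (g⁻¹ * t * g)) * g⁻¹ = b * t := by group
    have h9 : g * (g⁻¹ * t * g * (g⁻¹ * b * g)) * g⁻¹ = t * b := by group
    rw [h8, h9] at h7
    exact h7.symm

/-- a subgroup of the Suzuki group which is a 2-group has order at most `q ^ 2` -/
theorem card_two_le (hm : 1 ≤ m) (hF : Fintype.card F = 2 ^ (2 * m + 1)) {R : Subgroup (Cfsg.Sz F m)}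
    (hR : IsPGroup 2 R) : Nat.card R ≤ (2 ^ (2 * m + 1)) ^ 2 := by
  have : Fact (Nat.Prime 2) := ⟨Nat.prime_two⟩
  have hfin := finite_ovoid F m
  have hfG : Finite (Cfsg.Sz F m) := inferInstance
  obtain ⟨P, hP⟩ := hR.exists_le_sylow
  rw [← (sylow_facts hm hF P).1]
  exact Nat.card_le_card_of_injective _ (Subgroup.inclusion_injective hP)

theorem row_model (hm : 1 ≤ m) (hF : Fintype.card F = 2 ^ (2 * m + 1)) (hR1 : R1 (Cfsg.Sz F m))
    (hin : ∀ σ : MulAut (Cfsg.Sz F m), σ ^ 2 = 1 → ∃ g, σ = MulAut.conj g)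
    {A : Subgroup (Cfsg.Sz F m)} {Γ : Subgroup (MulAut (Cfsg.Sz F m))} (h : IF A Γ) : False := by
  have : Fact (Nat.Prime 2) := ⟨Nat.prime_two⟩
  have hfin := finite_ovoid F m
  have hfG : Finite (Cfsg.Sz F m) := inferInstance
  obtain ⟨σ, hσ, ho, h3⟩ := h.ex
  obtain ⟨t, rfl⟩ := hin σ (by rw [← ho]; exact pow_orderOf_eq_one σ)
  have htA : t ∈ A := (h.conj t).1 hσ
  have ht1 : t ≠ 1 := by
    rintro rfl
    rw [map_one, orderOf_one] at ho
    norm_num at ho
  -- `t ^ 2` is central, hence trivial: use the order of `t` as an element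
  have hcen : ∀ x : Cfsg.Sz F m, MulAut.conj x = 1 → x = 1 := by
    intro x hx
    by_contra hx1
    have hxc : ∀ y, x * y = y * x := by
      intro y
      have h1 := congrArg (fun τ : MulAut (Cfsg.Sz F m) => τ y) hx
      have h2 : x * y * x⁻¹ = y := h1
      rwa [mul_inv_eq_iff_eq_mul] at h2
    -- `x` lies in all Sylow subgroups or in all tori; use the trichotomy through `eq_centralizer`/Sylow
    rcases sylow_or_torus hm hF hx1 with ⟨P, hP⟩ | ⟨h1, h2⟩
    · -- in every conjugate of `P`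
      have hall : ∀ g : Cfsg.Sz F m, g • P = P := by
        intro g
        by_contra hne
        have h1 := hR1.ti P (g • P) (fun e => hne e.symm)
        have h2 : x ∈ (P : Subgroup (Cfsg.Sz F m)) ⊓ ((g • P : Sylow 2 _) : Subgroup (Cfsg.Sz F m)) := by
          refine ⟨hP, ?_⟩
          show x ∈ g • P
          rw [mem_smul_iff]
          have : g⁻¹ * x * g = x := by rw [mul_assoc, hxc g, inv_mul_cancel_left]
          rw [this]
          exact hP
        rw [h1, mem_bot] at h2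
        exact hx1 h2
      have h4 := (Cfsg.Agent.S2247.result hm hF P).1.1
      apply h4
      rw [eq_top_iff]
      intro g _
      exact smul_eq_self_iff.1 (hall g)
    · -- the centraliser of `x` is cyclic
      have h4 : centralizer ({x} : Set (Cfsg.Sz F m)) = ⊤ := by
        rw [eq_top_iff]
        intro g _
        rw [mem_centralizer_singleton_iff]
        exact (hxc g).symm
      rw [h4] at h1
      have h5 : ∀ a b : Cfsg.Sz F m, a * b = b * a := by
        intro a b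
        let := h1.commGroup
        exact congrArg Subtype.val (mul_comm (⟨a, mem_top a⟩ : (⊤ : Subgroup (Cfsg.Sz F m))) ⟨b, mem_top b⟩)
      obtain ⟨P⟩ : Nonempty (Sylow 2 (Cfsg.Sz F m)) := inferInstance
      apply (Cfsg.Agent.S2247.result hm hF P).1.1
      rw [eq_top_iff]
      intro g _
      rw [mem_normalizer_iff]
      intro y
      rw [h5 g y, mul_inv_cancel_right]
  have ht2 : t ^ 2 = 1 := by
    apply hcen
    rw [map_pow, ← ho]
    exact pow_orderOf_eq_one _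
  have hto : orderOf t = 2 := orderOf_eq_prime ht2 ht1
  have htz : IsPGroup 2 (zpowers t) := IsPGroup.of_card (n := 1) (by rw [Nat.card_zpowers, hto, pow_one])
  obtain ⟨P, hP⟩ := htz.exists_le_sylow
  have htP : t ∈ P := hP (mem_zpowers t)
  obtain ⟨hPc, hP4, hPt⟩ := sylow_facts hm hF P
  -- the inequality
  have hE := E1 h hσ ho (B := (P : Subgroup (Cfsg.Sz F m))) (by
    intro b hb
    rw [MulAut.conj_apply, hPt t htP ht2 b hb, mul_inv_cancel_right])
  have hlt : A.relIndex P ^ 6 < (2 ^ (2 * m + 1)) ^ 5 :=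
    hE.trans_le ((index_le_card A).trans (card_lt hm hF).le)
  set R : Subgroup (Cfsg.Sz F m) := A ⊓ P with hR
  have hRP : Nat.card R * A.relIndex P = (2 ^ (2 * m + 1)) ^ 2 := by
    rw [← hPc, ← (A.subgroupOf (P : Subgroup (Cfsg.Sz F m))).card_mul_index]
    congr 1
    rw [hR, inf_comm]
    have : (P : Subgroup (Cfsg.Sz F m)) ⊓ A = (A.subgroupOf P).map (Subgroup.subtype _) := by
      rw [Subgroup.subgroupOf_map_subtype, inf_comm]
    rw [this]
    exact (Nat.card_congr (Subgroup.equivMapOfInjective _ _ (Subgroup.subtype_injective _)).toEquiv).symm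
  have hR2 : IsPGroup 2 R := P.2.to_le inf_le_right
  have hq8 : 8 ≤ 2 ^ (2 * m + 1) := by
    calc 8 = 2 ^ 3 := by norm_num
      _ ≤ _ := Nat.pow_le_pow_right (by norm_num) (by omega)
  have hpow : (2 ^ (2 * m + 1)) ^ 12 = Nat.card R ^ 6 * A.relIndex P ^ 6 := by
    rw [← mul_pow, hRP]
    ring
  rcases Cfsg.Agent.S2251.result hm hF A h.ne_top with ⟨P', hP'⟩ | ⟨U, hUc, hUo, hUN⟩ | ⟨K, _, _, k, hk, hkm, hKc, hd, S, ⟨e⟩, hAS⟩
  · -- `A ≤ N(P')`: then `A = N(P')` and every involution has one fixed point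
    have key : ∀ x ∈ A, ∀ n : ℕ, x ^ 2 ^ n = 1 → x ∈ P' := by
      intro x hx n hn
      have hz : IsPGroup 2 (zpowers x) := by
        obtain ⟨j, -, hj⟩ := (Nat.dvd_prime_pow Nat.prime_two).1 (orderOf_dvd_of_pow_eq_one hn)
        exact IsPGroup.of_card (n := j) (by rw [Nat.card_zpowers, hj])
      have hsup : IsPGroup 2 (zpowers x ⊔ (P' : Subgroup (Cfsg.Sz F m)) : Subgroup (Cfsg.Sz F m)) :=
        hz.to_sup_of_normal_right' P'.2 ((zpowers_le.2 (hP' hx)))
      have h1 := P'.3 hsup le_sup_right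
      have h2 : zpowers x ≤ (P' : Subgroup (Cfsg.Sz F m)) := by
        have h3 : zpowers x ≤ zpowers x ⊔ (P' : Subgroup (Cfsg.Sz F m)) := le_sup_left
        rwa [h1] at h3
      exact h2 (mem_zpowers x)
    have htP' : t ∈ P' := key t htA 1 (by rw [pow_one, ht2])
    have hti : ∀ S T : Sylow 2 (Cfsg.Sz F m), ∀ x ∈ S, x ∈ T → x ≠ 1 → S = T := by
      intro S T x hS hT hx
      by_contra hne
      have h1 := hR1.ti S T hne
      have h2 : x ∈ (S : Subgroup (Cfsg.Sz F m)) ⊓ (T : Subgroup (Cfsg.Sz F m)) := ⟨hS, hT⟩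
      rw [h1, mem_bot] at h2
      exact hx h2
    have hAN : A = normalizer ((P' : Subgroup (Cfsg.Sz F m)) : Set (Cfsg.Sz F m)) := by
      rcases h.max _ hP' (by
        intro τ hτ b hb
        have h1 : τ t ∈ P' := key _ ((h.inv τ hτ t).2 htA) 1 (by rw [pow_one, ← map_pow, ht2, map_one])
        have hτt1 : τ t ≠ 1 := fun e1 => ht1 (τ.injective (e1.trans (map_one τ).symm))
        -- `τ(P') = P'`
        have hτP : ∀ x ∈ P', τ x ∈ P' := by
          have hPp : IsPGroup 2 ((P' : Subgroup (Cfsg.Sz F m)).map τ.toMonoidHom) := P'.2.map _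
          obtain ⟨P2, hP2⟩ := hPp.exists_le_sylow
          have h4 : P' = P2 := hti P' P2 (τ t) h1 (hP2 ⟨t, htP', rfl⟩) hτt1
          intro x hx
          have h5 : τ x ∈ P2 := hP2 ⟨x, hx, rfl⟩
          rwa [← h4] at h5
        have hτP' : ∀ x, τ x ∈ P' → x ∈ P' := by
          have hPm : (P' : Subgroup (Cfsg.Sz F m)).map τ.toMonoidHom = P' := by
            apply Subgroup.eq_of_le_of_card_ge
            · rintro _ ⟨x, hx, rfl⟩
              exact hτP x hx
            · exact (Nat.card_congr ((P' : Subgroup (Cfsg.Sz F m)).equivMapOfInjective _ τ.injective).toEquiv).le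
          intro x hx
          have h5 : τ x ∈ (P' : Subgroup (Cfsg.Sz F m)).map τ.toMonoidHom := by rw [hPm]; exact hx
          obtain ⟨y, hy, e1⟩ := h5
          rwa [← τ.injective e1]
        rw [mem_normalizer_iff] at hb ⊢
        intro y
        obtain ⟨x, rfl⟩ := τ.surjective y
        have e2 : τ b * τ x * (τ b)⁻¹ = τ (b * x * b⁻¹) := by rw [map_mul, map_mul, map_inv]
        rw [e2]
        exact ⟨fun hy => hτP _ ((hb x).1 (hτP' x hy)), fun hy => hτP _ ((hb x).2 (hτP' _ hy))⟩) with h1 | h1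
      · exact h1.symm
      · exact absurd h1 (Cfsg.Agent.S2247.result hm hF P').1.1
    -- fixed points
    have hfx : fixSet A (MulAut.conj t) ⊆ {((1 : Cfsg.Sz F m) : Cfsg.Sz F m ⧸ A)} := by
      rintro _ ⟨y, rfl, hy⟩
      have h1 : y⁻¹ * (t * y * t⁻¹) ∈ A := hy
      have h2 : y⁻¹ * t * y ∈ A := by
        have e1 : y⁻¹ * t * y = y⁻¹ * (t * y * t⁻¹) * t := by group
        rw [e1]
        exact A.mul_mem h1 htA
      have h4 : y⁻¹ * t * y ∈ P' := by
        apply key _ h2 1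
        have e1 := conj_pow (a := y⁻¹) (b := t) (i := 2)
        rw [inv_inv] at e1
        rw [pow_one, e1, ht2]
        group
      have h5 : t ∈ y • P' := mem_smul_iff.2 h4
      have h6 : P' = y • P' := hti _ _ t htP' h5 ht1
      have h7 : y ∈ A := by
        rw [hAN]
        exact smul_eq_self_iff.1 h6.symm
      rw [Set.mem_singleton_iff, QuotientGroup.eq, mul_one]
      exact A.inv_mem h7
    have h8 : fx A (MulAut.conj t) ≤ 1 := by
      have := Set.ncard_le_ncard hfx (Set.finite_singleton _)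
      rwa [Set.ncard_singleton] at this
    omega
  · -- `A ≤ N(U)`
    have h4 : Nat.card R ≤ 4 := by
      apply card_le_four (U := U) (fun r hr => hP4 r (mem_inf.1 hr).2) hUc (one_lt_of_mem hm hUo).ne'
        (inf_le_left.trans hUN)
      intro u hu hu1 r hr hru
      by_contra hr1
      have h5 := eq_centralizer hm hF hu1 hu hUc hUo
      have h6 : r ∈ U := by
        rw [h5, mem_centralizer_singleton_iff]
        exact hru
      exact not_both hr1 (mem_inf.1 hr).2 U h6 hUo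
    have h5 : Nat.card R ^ 6 ≤ 4 ^ 6 := Nat.pow_le_pow_left h4 6
    have h6 : (2 ^ (2 * m + 1)) ^ 12 ≤ 4 ^ 6 * (2 ^ (2 * m + 1)) ^ 5 := by
      rw [hpow]
      exact Nat.mul_le_mul h5 hlt.le
    have h7 : (8 : ℕ) ^ 7 ≤ (2 ^ (2 * m + 1)) ^ 7 := Nat.pow_le_pow_left hq8 7
    have h8 : (2 ^ (2 * m + 1)) ^ 7 * (2 ^ (2 * m + 1)) ^ 5 ≤ 4 ^ 6 * (2 ^ (2 * m + 1)) ^ 5 := by
      rw [← pow_add]; exact h6
    have h9 := Nat.le_of_mul_le_mul_right h8 (by positivity)
    norm_num at h7 h9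
    omega
  · -- `A ≤ Sz(s)`
    have h4 : Nat.card R ≤ (2 ^ (2 * k + 1)) ^ 2 := by
      have hRS : R ≤ S := inf_le_left.trans hAS
      have h5 : IsPGroup 2 ((R.subgroupOf S).map e.toMonoidHom) := by
        have : IsPGroup 2 (R.subgroupOf S) := hR2.comap_of_injective S.subtype S.subtype_injective
        exact this.map _
      have h6 := card_two_le hk hKc h5
      rw [← Nat.card_congr ((R.subgroupOf S).equivMapOfInjective e.toMonoidHom e.injective).toEquiv,
        Nat.card_congr (Subgroup.subgroupOfEquivOfLe hRS).toEquiv] at h6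
      exact h6
    have hkm3 : 3 * (2 * k + 1) ≤ 2 * m + 1 := by
      obtain ⟨c, hc⟩ := hd
      have hc1 : c ≠ 0 := by rintro rfl; omega
      have hc2 : c ≠ 1 := by rintro rfl; omega
      have hc3 : c ≠ 2 := by rintro rfl; omega
      have hc4 : 3 ≤ c := by omega
      calc 3 * (2 * k + 1) ≤ c * (2 * k + 1) := Nat.mul_le_mul_right _ hc4
        _ = 2 * m + 1 := by rw [hc, mul_comm]
    have hs3 : (2 ^ (2 * k + 1)) ^ 3 ≤ 2 ^ (2 * m + 1) := by
      rw [← pow_mul]
      exact Nat.pow_le_pow_right (by norm_num) (by omega)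
    have h5 : Nat.card R ^ 6 ≤ (2 ^ (2 * m + 1)) ^ 4 := by
      calc Nat.card R ^ 6 ≤ ((2 ^ (2 * k + 1)) ^ 2) ^ 6 := Nat.pow_le_pow_left h4 6
        _ = ((2 ^ (2 * k + 1)) ^ 3) ^ 4 := by ring
        _ ≤ (2 ^ (2 * m + 1)) ^ 4 := Nat.pow_le_pow_left hs3 4
    have h6 : (2 ^ (2 * m + 1)) ^ 12 ≤ (2 ^ (2 * m + 1)) ^ 9 := by
      rw [hpow]
      calc Nat.card R ^ 6 * A.relIndex P ^ 6 ≤ (2 ^ (2 * m + 1)) ^ 4 * (2 ^ (2 * m + 1)) ^ 5 :=
            Nat.mul_le_mul h5 hlt.le
        _ = (2 ^ (2 * m + 1)) ^ 9 := by ring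
    exact absurd h6 (not_le.2 (Nat.pow_lt_pow_right (by omega) (by norm_num)))

end Model

/-- **S5719, the row `Sz(q)`.** -/
theorem row_sz {T : Type*} [Group T] [Finite T] (hT : Lie.IsoSuzuki T) {A : Subgroup T} {Γ : Subgroup (MulAut T)}
    (h : IF A Γ) : False := by
  obtain ⟨F, _, _, m, hm, hF, ⟨e⟩⟩ := hT
  obtain ⟨i⟩ := Cfsg.Agent.OddCyclic.ClaimC.SzIso.iso hm hF
  have hiso : Lie.IsoSuzuki (Cfsg.Sz F m) := ⟨F, inferInstance, inferInstance, m, hm, hF, ⟨i⟩⟩
  have hfin := Cfsg.Agent.H98.SzBasic.finite_ovoid F m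
  have e' : T ≃* Cfsg.Sz F m := e.trans i.symm
  have hfG : Finite (Cfsg.Sz F m) := Finite.of_equiv T e'.toEquiv
  exact row_model hm hF (Cfsg.Agent.H803.RankOneFacts.R1.of_suzuki hiso)
    (fun σ hσ => Cfsg.Agent.H829.SzTwF.inner_sz hiso hσ) (IF.congr e' h)

end Cfsg.Agent.H371.IFx
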