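import Cfsg.Agent.H221.Der.Sz
import Cfsg.Agent.S2251

/-!
# Subgroups of `Sz(q)` of small index lie in a Borel subgroup (helper371, S5719, row `²F₄`)

`sz_index` : a proper subgroup `M` of `Sz(q)` lies in the normaliser of a Sylow 2-subgroup or `q³ ≤ 4 |Sz(q) : M|`.
-/

set_option autoImplicit false
set_option linter.unusedSectionVars false

namespace Cfsg.Agent.H371.IFx

open MulAction Subgroup Cfsg Cfsg.Agent.H947.El Cfsg.Agent.H439.Der Cfsg.Agent.H768.Der
open Cfsg.Agent.H101.SzAbs Cfsg.Agent.H101.SzGeo Cfsg.Agent.H101.SzAbs.Geo Cfsg.Agent.H101.SzSub Cfsg.Agent.H221.Der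

variable {F : Type*} [Field F] [Fintype F] {m : ℕ}

theorem card_norm_split (hm : 1 ≤ m) (hF : Fintype.card F = 2 ^ (2 * m + 1)) (U : Subgroup (Cfsg.Sz F m))
    (hc : IsCyclic U) (hU : Nat.card U = 2 ^ (2 * m + 1) - 1) :
    Nat.card (normalizer (U : Set (Cfsg.Sz F m))) ≤ 2 * (2 ^ (2 * m + 1) - 1) := by
  obtain ⟨q, r, hq, hr, h8, h2q, h2r, hrq, hrr⟩ := num_sz m hm
  have hfin : Finite (Cfsg.Sz F m) := inferInstance
  have hcomm : ∀ x ∈ U, ∀ y ∈ U, x * y = y * x := by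
    intro x hx y hy
    have := hc.commGroup.mul_comm (⟨x, hx⟩ : U) ⟨y, hy⟩
    exact congrArg Subtype.val this
  have hcardG := Cfsg.Agent.S0324.result hm hF
  obtain ⟨-, hTk⟩ := T_cyclic hm hF
  rw [← hq] at hcardG hU hTk
  have hidx : (T hF).index = q ^ 2 * (q ^ 2 + 1) := by
    have h1 := (T hF).card_mul_index
    rw [hcardG, hTk] at h1
    have h2 : (q - 1) * (T hF).index = (q - 1) * (q ^ 2 * (q ^ 2 + 1)) := by
      rw [h1]
      ring
    exact Nat.eq_of_mul_eq_mul_left (by omega) h2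
  have hcop : Nat.Coprime (Nat.card (T hF)) (T hF).index := by
    rw [hTk, hidx]
    refine cop_of_prime fun p hp h1 h2 => ?_
    have h3 : ¬ p ∣ q := by
      intro h4
      have h5 : q = (q - 1) + 1 := by omega
      rw [h5] at h4
      exact hp.one_lt.ne' (Nat.dvd_one.1 ((Nat.dvd_add_right h1).1 h4))
    rcases hp.dvd_mul.1 h2 with h4 | h4
    · exact h3 (hp.dvd_of_dvd_pow h4)
    · have h5 : q ^ 2 + 1 = (q - 1) * (q + 1) + 2 := by
        obtain ⟨t, rfl⟩ : ∃ t, q = t + 1 := ⟨q - 1, by omega⟩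
        rw [Nat.add_sub_cancel]; ring
      rw [h5] at h4
      have h6 := (Nat.prime_dvd_prime_iff_eq hp Nat.prime_two).1 ((Nat.dvd_add_right (h1.mul_right _)).1 h4)
      rw [h6] at h3
      exact h3 h2q
  obtain ⟨g, hg⟩ := exists_conj_of_cc U (T hF) (by rw [hU, hTk]) (by rw [hTk]; omega) hcop hcomm
    (fun u hu hu1 => T_cent hm hF hu hu1)
  have h1 := card_normalizer_T_le hm hF
  rw [← hg, ← Subgroup.map_normalizer_eq_of_bijective _ (f := (MulAut.conj g).toMonoidHom)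
    (MulAut.conj g).bijective, Subgroup.card_map_of_injective (MulAut.conj g).injective] at h1
  exact h1

theorem sz_index (hm : 1 ≤ m) (hF : Fintype.card F = 2 ^ (2 * m + 1)) (M : Subgroup (Cfsg.Sz F m)) (hM : M ≠ ⊤) :
    (∃ P : Sylow 2 (Cfsg.Sz F m), M ≤ normalizer ((P : Subgroup (Cfsg.Sz F m)) : Set (Cfsg.Sz F m))) ∨
      (2 ^ (2 * m + 1)) ^ 3 ≤ 4 * M.index := by
  obtain ⟨q, r, hq, hr, h8, h2q, h2r, hrq, hrr⟩ := num_sz m hm
  have hfin : Finite (Cfsg.Sz F m) := inferInstance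
  have hcardG := Cfsg.Agent.S0324.result hm hF
  rw [← hq] at hcardG
  have hidx := M.card_mul_index
  rw [hcardG] at hidx
  have hMpos : 0 < Nat.card M := Nat.card_pos
  -- a bound for the order
  have key : Nat.card M ≤ 2 * q ^ 2 → q ^ 3 ≤ 4 * M.index := by
    intro hB
    have h1 : q ^ 2 * (q ^ 2 + 1) * (q - 1) ≤ 2 * q ^ 2 * M.index := by
      rw [← hidx]
      exact Nat.mul_le_mul_right _ hB
    have h2 : q ^ 2 * ((q ^ 2 + 1) * (q - 1)) ≤ q ^ 2 * (2 * M.index) := by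
      calc q ^ 2 * ((q ^ 2 + 1) * (q - 1)) = q ^ 2 * (q ^ 2 + 1) * (q - 1) := by ring
        _ ≤ 2 * q ^ 2 * M.index := h1
        _ = _ := by ring
    have h3 := Nat.le_of_mul_le_mul_left h2 (by positivity)
    obtain ⟨t, rfl⟩ : ∃ t, q = t + 1 := ⟨q - 1, by omega⟩
    rw [Nat.add_sub_cancel] at h3
    have h4 : (t + 1) ^ 3 ≤ 2 * (((t + 1) ^ 2 + 1) * t) := by
      have : 7 ≤ t := by omega
      nlinarith [mul_pos (show 0 < t by omega) (show 0 < t by omega)]
    omega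
  have h8q : 8 * q ≤ q ^ 2 := by rw [pow_two]; exact Nat.mul_le_mul_right _ h8
  rcases Cfsg.Agent.S2251.result hm hF M hM with hP | ⟨U, hU, hUc, hUN⟩ |
    ⟨K, iK, iK', k', hk', hkm, hKc, hdvd, R, ⟨e⟩, hR⟩
  · exact Or.inl hP
  · right
    rw [← hq]
    apply key
    have h1 : Nat.card M ≤ Nat.card (normalizer (U : Set (Cfsg.Sz F m))) := Subgroup.card_le_of_le hUN
    rcases hUc with hUc | hUc
    · have h2 := card_norm_split hm hF U hU hUc
      rw [← hq] at h2
      omega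
    · have h2 := card_normalizer_torus hm hF U hU (k := Nat.card U) hUc rfl
      have hUle : Nat.card U ≤ q + r + 1 := by
        rcases hUc with h3 | h3
        · rw [h3, hq, hr]
        · have h3' : Nat.card U = 2 ^ (2 * m + 1) - 2 ^ (m + 1) + 1 := h3
          rw [h3', ← hq, ← hr]
          omega
      have : Nat.card M ≤ 4 * (q + r + 1) := by
        calc Nat.card M ≤ _ := h1
          _ = 4 * Nat.card U := h2
          _ ≤ _ := Nat.mul_le_mul_left _ hUle
      omega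
  · right
    rw [← hq]
    apply key
    have h1 : Nat.card M ≤ Nat.card (Cfsg.Sz K k') := by
      rw [← Nat.card_congr e.toEquiv]
      exact Subgroup.card_le_of_le hR
    rw [Cfsg.Agent.S0324.result hk' hKc] at h1
    obtain ⟨t, ht⟩ : ∃ t, t = 2 ^ (2 * k' + 1) := ⟨_, rfl⟩
    rw [← ht] at h1
    have ht3 : t ^ 3 ≤ q := by
      rw [ht, hq, ← pow_mul]
      apply Nat.pow_le_pow_right (by norm_num)
      obtain ⟨c, hc'⟩ := hdvd
      have hc1 : c ≠ 0 := by rintro rfl; omega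
      have hc2 : c ≠ 1 := by rintro rfl; omega
      have hc3 : c ≠ 2 := by rintro rfl; omega
      rw [hc']
      exact Nat.mul_le_mul_left _ (by omega)
    have ht1 : 1 ≤ t := by rw [ht]; exact Nat.one_le_two_pow
    refine h1.trans ?_
    have h3 : t ^ 2 + 1 ≤ 2 * t ^ 2 := by nlinarith
    have h4 : t - 1 ≤ t := Nat.sub_le _ _
    calc t ^ 2 * (t ^ 2 + 1) * (t - 1) ≤ t ^ 2 * (2 * t ^ 2) * t :=
          Nat.mul_le_mul (Nat.mul_le_mul_left _ h3) h4
      _ = 2 * (t ^ 5 * 1) := by ring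
      _ ≤ 2 * (t ^ 5 * t) := Nat.mul_le_mul_left _ (Nat.mul_le_mul_left _ ht1)
      _ = 2 * (t ^ 3 * t ^ 3) := by ring
      _ ≤ 2 * (q * q) := Nat.mul_le_mul_left _ (Nat.mul_le_mul ht3 ht3)
      _ = 2 * q ^ 2 := by ring

end Cfsg.Agent.H371.IFx
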