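import Cfsg.Agent.H371.IFx.Sz
import Cfsg.Agent.H209.IF.Row

/-!
# S5719: the row `Sz(q)` in the form of the assembly (helper371)
-/

set_option autoImplicit false

namespace Cfsg.Agent.H371.IFx

open Cfsg.Agent.H209.Fxy

theorem rowSz : Row fun T => Lie.IsoSuzuki T := fun _ _ _ _ _ hT _ _ h => row_sz hT h

end Cfsg.Agent.H371.IFx
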