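import Cfsg.Agent.H371.IFx.SzIdx
import Cfsg.Agent.H803.RankOneFacts
import Cfsg.Agent.H496.TwEight.Card
import Cfsg.Agent.H496.TwEight.Proj
import Cfsg.Agent.H496.TwFRad.Levi
import Cfsg.Agent.H762.TwFPL
import Cfsg.Agent.H84.CoreTwFB
import Cfsg.Agent.OddCyclic.ClaimC.SzIso

/-!
# Subgroups of small index of the centraliser of a 2-central involution of `²F₄(q)` (helper371, S5719)

`B4 = ⟨X_1, …, X_8⟩ T_4`, the Borel subgroup of `PL = C(Z_4) = Q : Sz(q)`.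

* `dich` : `X ≤ PL` with `|PL : X|⁵ < q¹¹` : then `X Q = PL` or `X` is conjugate (under `L4`) to a subgroup of `B4`.
-/

set_option autoImplicit false
set_option linter.unusedSectionVars false

namespace Cfsg.Agent.H371.IFx.Tw

open Subgroup Cfsg
open Cfsg.Agent.SplitTwo Cfsg.Agent.SplitTwo.ZS Cfsg.Agent.TitsThree.RankTwoZ Cfsg.Agent.SplitTwo.RootSysZ
open Cfsg.Agent.KFacts.TwF4 Cfsg.Agent.KFacts.TwF4.Arc Cfsg.Agent.KFacts.TwF4.Irr Cfsg.Agent.KFacts.TwF4.Perf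
open Cfsg.Agent.KFacts.TwF4.Inv Cfsg.Agent.CpAutTwF.Pair Cfsg.Agent.CpAutTwF.Cent
open Cfsg.Agent.H496.TwFRad.Levi Cfsg.Agent.H496.TwEight Cfsg.Agent.H803.RankOneFacts
open scoped Pointwise

variable {F : Type} [Field F] {σ : F →+* F} {G : Type} [Group G] (S : Full σ G)
variable [Finite F] [Finite G]

/-- the Borel subgroup of `PL` -/
def B4 : Subgroup G where
  carrier := {g | ∃ b ∈ J S.XZ 1 8, ∃ t ∈ S.Tk 4, g = b * t}
  one_mem' := ⟨1, one_mem _, 1, one_mem _, by rw [one_mul]⟩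
  mul_mem' := by
    rintro _ _ ⟨b, hb, t, ht, rfl⟩ ⟨b', hb', t', ht', rfl⟩
    exact ⟨b * (t * b' * t⁻¹), mul_mem hb (S.T_conj_J (S.Tk_le 4 ht) hb'), t * t', mul_mem ht ht', by group⟩
  inv_mem' := by
    rintro _ ⟨b, hb, t, ht, rfl⟩
    refine ⟨t⁻¹ * b⁻¹ * t⁻¹⁻¹, S.T_conj_J (S.Tk_le 4 (inv_mem ht)) (inv_mem hb), t⁻¹, inv_mem ht, by group⟩

theorem U_le_B4 : J S.XZ 1 8 ≤ B4 S := fun b hb => ⟨b, hb, 1, one_mem _, by rw [mul_one]⟩

theorem Tk_le_B4 : S.Tk 4 ≤ B4 S := fun t ht => ⟨1, one_mem _, t, ht, by rw [one_mul]⟩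

theorem B4_le_PL : B4 S ≤ S.PL := by
  rintro _ ⟨b, hb, t, ht, rfl⟩
  exact mul_mem (J_mono (by norm_num) le_rfl hb) (L4_le_PL S (Tk4_L4 S ht))

theorem card_B4_le : Nat.card (B4 S) ≤ Nat.card F ^ 12 * (Nat.card F - 1) := by
  rw [← Cfsg.Agent.H762.PL.card_U S, ← card_Tk4 S, ← Nat.card_prod]
  refine Nat.card_le_card_of_surjective
    (fun a : (J S.XZ 1 8) × (S.Tk 4) => (⟨a.1 * a.2, a.1, a.1.2, a.2, a.2.2, rfl⟩ : B4 S)) ?_
  rintro ⟨_, b, hb, t, ht, rfl⟩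
  exact ⟨(⟨b, hb⟩, ⟨t, ht⟩), rfl⟩

/-- the number of Borel subgroups of `PL` -/
theorem relIndex_B4 (hF : ∃ d : Fˣ, d ≠ 1) : Nat.card F ^ 2 + 1 ≤ (B4 S).relIndex S.PL := by
  have h1 : Nat.card (B4 S) * (B4 S).relIndex S.PL = Nat.card S.PL := by
    rw [← ((B4 S).subgroupOf S.PL).card_mul_index, Nat.card_congr (subgroupOfEquivOfLe (B4_le_PL S)).toEquiv]
    rfl
  rw [Card.card_PL' S hF] at h1
  have h2 := card_B4_le S
  have hq : 2 ≤ Nat.card F := by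
    obtain ⟨d, hd⟩ := hF
    exact Finite.one_lt_card_iff_nontrivial.2 ⟨⟨0, 1, zero_ne_one⟩⟩
  have h3 : 0 < Nat.card F ^ 12 * (Nat.card F - 1) := by
    have : 0 < Nat.card F - 1 := by omega
    positivity
  have h4 : Nat.card F ^ 12 * (Nat.card F - 1) * (Nat.card F ^ 2 + 1) ≤
      Nat.card F ^ 12 * (Nat.card F - 1) * (B4 S).relIndex S.PL := by
    calc Nat.card F ^ 12 * (Nat.card F - 1) * (Nat.card F ^ 2 + 1) =
        Nat.card (B4 S) * (B4 S).relIndex S.PL := by rw [h1]; ring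
      _ ≤ _ := Nat.mul_le_mul_right _ h2
  exact Nat.le_of_mul_le_mul_left h4 h3

theorem X0_inf_B4 {x : G} (hx : x ∈ S.XZ 0) (hx' : x ∈ B4 S) : x = 1 := by
  obtain ⟨b, hb, t, ht, h⟩ := hx'
  exact (S.J07_inf_UT hx hb (S.Tk_le 4 ht) h).1

/-- a non-trivial element of `X_8` lies in a unique Borel subgroup -/
theorem mem_B4_of_conj (hF : ∃ d : Fˣ, d ≠ 1) {l y : G} (hl : l ∈ L4 S) (hy : y ∈ S.XZ 8) (hy1 : y ≠ 1)
    (h : l * y * l⁻¹ ∈ B4 S) : l ∈ B4 S := by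
  have h8 : ∀ {x : G}, x ∈ S.XZ 8 → x ∈ B4 S := fun hx => U_le_B4 S (mem_J hx (by norm_num) le_rfl)
  rcases form_L4 S hF hl with ⟨x, hx, t, ht, rfl⟩ | ⟨x, hx, t, ht, z, hz, rfl⟩
  · exact mul_mem (h8 hx) (Tk_le_B4 S ht)
  · exfalso
    have h1 : S.n2 * (z * y * z⁻¹) * S.n2⁻¹ ∈ S.XZ 0 :=
      S.n2_refl.mem' (mul_mem (mul_mem hz hy) (inv_mem hz)) (by norm_num)
    have h2 : S.n2 * (z * y * z⁻¹) * S.n2⁻¹ ∈ B4 S := by
      have e : S.n2 * (z * y * z⁻¹) * S.n2⁻¹ =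
          (x * t)⁻¹ * (x * (t * S.n2) * z * y * (x * (t * S.n2) * z)⁻¹) * (x * t) := by group
      rw [e]
      have h3 : x * t ∈ B4 S := mul_mem (h8 hx) (Tk_le_B4 S ht)
      exact mul_mem (mul_mem (inv_mem h3) h) h3
    have h3 := X0_inf_B4 S h1 h2
    apply hy1
    calc y = z⁻¹ * (S.n2⁻¹ * (S.n2 * (z * y * z⁻¹) * S.n2⁻¹) * S.n2) * z := by group
      _ = 1 := by rw [h3]; group

/-- the projection of `PL` onto `L4` -/
theorem exists_rho (hF : ∃ d : Fˣ, d ≠ 1) : ∃ ρ : S.PL →* L4 S, (∀ c : S.PL, ((ρ c : L4 S) : G)⁻¹ * c ∈ S.Q) ∧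
    Function.Surjective ρ := by
  obtain ⟨ρ, hρ⟩ := Proj.exists_proj (C := S.PL) (L := L4 S) (N := S.Q) (L4_le_PL S)
    (fun c hc n hn => Q_norm S hc hn) (fun c hc => PL_split S hc) (fun x hx hx' => L4_inf_Q S hF hx hx')
  refine ⟨ρ, hρ, fun l => ⟨⟨l, L4_le_PL S l.2⟩, ?_⟩⟩
  have h1 := hρ ⟨l, L4_le_PL S l.2⟩
  have h2 := L4_inf_Q S hF (mul_mem (inv_mem (ρ ⟨l, L4_le_PL S l.2⟩).2) l.2) h1
  exact Subtype.ext (inv_mul_eq_one.1 h2)

theorem num_inj {q r : ℕ} (hq : 2 ≤ q) (hr : 2 ≤ r)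
    (h : r ^ 2 * (r ^ 2 + 1) * (r - 1) = q * q * (q - 1) * (q * q + 1)) : r = q := by
  have hmono : ∀ a b : ℕ, 2 ≤ a → a < b → a ^ 2 * (a ^ 2 + 1) * (a - 1) < b ^ 2 * (b ^ 2 + 1) * (b - 1) := by
    intro a b ha hab
    have h1 : a ^ 2 < b ^ 2 := Nat.pow_lt_pow_left hab (by norm_num)
    have h2 : a ^ 2 * (a ^ 2 + 1) < b ^ 2 * (b ^ 2 + 1) := by
      exact Nat.mul_lt_mul_of_lt_of_le h1 (by omega) (by positivity)
    exact Nat.mul_lt_mul_of_lt_of_le h2 (by omega) (by omega)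
  have e : q * q * (q - 1) * (q * q + 1) = q ^ 2 * (q ^ 2 + 1) * (q - 1) := by ring
  rw [e] at h
  rcases lt_trichotomy r q with h1 | h1 | h1
  · exact absurd h (hmono r q hr h1).ne
  · exact h1
  · exact absurd h (hmono q r hq h1).ne'

theorem dich (hF : ∃ d : Fˣ, d ≠ 1) (_hR : S.R.p = 2) {k : ℕ} (hk : 3 ≤ k) (hFk : Nat.card F = 2 ^ k)
    {X : Subgroup G} (hX : X ≤ S.PL) (hidx : X.relIndex S.PL ^ 5 < Nat.card F ^ 11) :
    (∀ g ∈ S.PL, ∃ x ∈ X, ∃ c ∈ S.Q, g = x * c) ∨ ∃ l ∈ L4 S, ∀ x ∈ X, l * x * l⁻¹ ∈ B4 S := by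
  have : Fact (Nat.Prime 2) := ⟨Nat.prime_two⟩
  have hq8 : 8 ≤ Nat.card F := by
    rw [hFk]
    calc 8 = 2 ^ 3 := by norm_num
      _ ≤ _ := Nat.pow_le_pow_right (by norm_num) hk
  obtain ⟨ρ, hρ, hρs⟩ := exists_rho S hF
  -- the Suzuki group
  have hI : Lie.IsoSuzuki ↥(L4 S) := by
    have h := Cfsg.Agent.H84.GaussTwF4.LL_iso S (k := k) (by omega) hFk
    rwa [Cfsg.Agent.H84.GaussTwF4.LJ_eq, ← Cfsg.Agent.H84.CoreTwF.L4_eq] at h
  obtain ⟨E, iE, iE', n, hn, hE, ⟨e0⟩⟩ := hI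
  obtain ⟨e1⟩ := Cfsg.Agent.OddCyclic.ClaimC.SzIso.iso hn hE
  let e : L4 S ≃* Cfsg.Sz E n := e0.trans e1.symm
  have hfin : Finite (Cfsg.Sz E n) := Finite.of_equiv _ e.toEquiv
  have hcard : 2 ^ (2 * n + 1) = Nat.card F := by
    have h1 := Cfsg.Agent.S0324.result hn hE
    rw [← Nat.card_congr e.toEquiv, card_L4 S hF] at h1
    refine num_inj (by omega) ?_ h1.symm
    calc 2 = 2 ^ 1 := by norm_num
      _ ≤ _ := Nat.pow_le_pow_right (by norm_num) (by omega)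
  let f : S.PL →* Cfsg.Sz E n := e.toMonoidHom.comp ρ
  have hf : ∀ c, f c = e (ρ c) := fun _ => rfl
  have hfs : Function.Surjective f := e.surjective.comp hρs
  set M : Subgroup (Cfsg.Sz E n) := (X.subgroupOf S.PL).map f with hM
  have hMi : M.index ≤ X.relIndex S.PL := by
    have h1 : M.index ∣ (X.subgroupOf S.PL).index := Subgroup.index_map_dvd _ hfs
    exact Nat.le_of_dvd (Nat.pos_of_ne_zero (Subgroup.index_ne_zero_of_finite)) h1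
  by_cases hMt : M = ⊤
  · left
    intro g hg
    have h1 : f ⟨g, hg⟩ ∈ M := by rw [hMt]; exact mem_top _
    obtain ⟨x, hx, hxg⟩ := h1
    have h2 : ρ x = ρ ⟨g, hg⟩ := e.injective hxg
    refine ⟨x, hx, (x : G)⁻¹ * g, ?_, by group⟩
    have h3 := hρ x
    have h4 := hρ ⟨g, hg⟩
    rw [← h2] at h4
    have e2 : (x : G)⁻¹ * g = (((ρ x : L4 S) : G)⁻¹ * x)⁻¹ * (((ρ x : L4 S) : G)⁻¹ * g) := by group
    rw [e2]
    exact mul_mem (inv_mem h3) h4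
  rcases sz_index hn hE M hMt with ⟨P, hP⟩ | hbig
  · right
    -- the Sylow subgroup `X_8`
    let X8 : Subgroup (Cfsg.Sz E n) := ((S.XZ 8).subgroupOf (L4 S)).map e.toMonoidHom
    have hX8c : Nat.card X8 = Nat.card F ^ 2 := by
      have h1 : Nat.card X8 = Nat.card ((S.XZ 8).subgroupOf (L4 S)) :=
        Subgroup.card_map_of_injective e.injective
      rw [h1, Nat.card_congr (subgroupOfEquivOfLe (X8_L4 S)).toEquiv]
      have := Cfsg.Agent.CpAutTwF.Card.card_even S 4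
      norm_num at this
      rw [this]
      try ring
    have hX8p : IsPGroup 2 X8 := IsPGroup.of_card (n := k * 2) (by rw [hX8c, hFk, ← pow_mul])
    have hX8i : ¬ 2 ∣ X8.index := by
      have h1 := X8.card_mul_index
      have h2 := Cfsg.Agent.S0324.result hn hE
      rw [hX8c, h2, hcard] at h1
      have h3 : X8.index = (Nat.card F ^ 2 + 1) * (Nat.card F - 1) := by
        have h4 : 0 < Nat.card F ^ 2 := by positivity
        apply Nat.eq_of_mul_eq_mul_left h4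
        rw [h1]
        ring
      rw [h3]
      intro h4
      have h5 : 2 ∣ Nat.card F := by rw [hFk]; exact dvd_pow_self 2 (by omega)
      rcases (Nat.Prime.dvd_mul Nat.prime_two).1 h4 with h6 | h6
      · have h7 : 2 ∣ Nat.card F ^ 2 := h5.trans (dvd_pow_self _ (by norm_num))
        omega
      · omega
    obtain ⟨g, hg⟩ := MulAction.exists_smul_eq (Cfsg.Sz E n) P (hX8p.toSylow hX8i)
    obtain ⟨l, rfl⟩ := e.surjective g
    have hmem : ∀ y : L4 S, e y ∈ hX8p.toSylow hX8i ↔ (y : G) ∈ S.XZ 8 := by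
      intro y
      constructor
      · rintro ⟨y', hy', h1⟩
        have h2 : y' = y := e.injective h1
        rw [← h2]
        exact hy'
      · intro hy
        exact ⟨y, hy, rfl⟩
    refine ⟨l, l.2, ?_⟩
    intro x hx
    -- `l ρ(x) l⁻¹` normalises `X_8`
    have hxM : f ⟨x, hX hx⟩ ∈ M := ⟨⟨x, hX hx⟩, hx, rfl⟩
    have hxN := hP hxM
    let y : L4 S := ⟨S.e 4 1 0, X8_L4 S ((mem_X8 S).2 ⟨1, 0, rfl⟩)⟩
    have hy8 : (y : G) ∈ S.XZ 8 := (mem_X8 S).2 ⟨1, 0, rfl⟩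
    have hy1 : (y : G) ≠ 1 := fun h => one_ne_zero (S.e_eq_one h).1
    have h1 : e y ∈ e l • P := by rw [hg]; exact (hmem y).2 hy8
    have h2 : (e l)⁻¹ * e y * e l ∈ P := mem_smul_iff.1 h1
    have h3 : f ⟨x, hX hx⟩ * ((e l)⁻¹ * e y * e l) * (f ⟨x, hX hx⟩)⁻¹ ∈ P := (mem_normalizer_iff.1 hxN _).1 h2
    have h4 : e (l * ρ ⟨x, hX hx⟩ * l⁻¹ * y * (l * ρ ⟨x, hX hx⟩ * l⁻¹)⁻¹) ∈ e l • P := by
      rw [mem_smul_iff]
      have e2 : (e l)⁻¹ * e (l * ρ ⟨x, hX hx⟩ * l⁻¹ * y * (l * ρ ⟨x, hX hx⟩ * l⁻¹)⁻¹) * e l =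
          f ⟨x, hX hx⟩ * ((e l)⁻¹ * e y * e l) * (f ⟨x, hX hx⟩)⁻¹ := by
        rw [hf]
        simp only [map_mul, map_inv]
        group
      rw [e2]
      exact h3
    rw [hg, hmem] at h4
    have h5 : ((l : G) * (ρ ⟨x, hX hx⟩ : L4 S) * (l : G)⁻¹) ∈ B4 S := by
      refine mem_B4_of_conj S hF (mul_mem (mul_mem l.2 (ρ ⟨x, hX hx⟩).2) (inv_mem l.2)) hy8 hy1 ?_
      exact U_le_B4 S (mem_J h4 (by norm_num) le_rfl)
    have h6 := hρ ⟨x, hX hx⟩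
    have h7 : (l : G) * (((ρ ⟨x, hX hx⟩ : L4 S) : G)⁻¹ * x) * (l : G)⁻¹ ∈ S.Q := Q_norm S (L4_le_PL S l.2) h6
    have e3 : (l : G) * x * (l : G)⁻¹ = ((l : G) * (ρ ⟨x, hX hx⟩ : L4 S) * (l : G)⁻¹) *
        ((l : G) * (((ρ ⟨x, hX hx⟩ : L4 S) : G)⁻¹ * x) * (l : G)⁻¹) := by group
    rw [e3]
    exact mul_mem h5 (U_le_B4 S (J_mono le_rfl (by norm_num) h7))
  · exfalso
    rw [hcard] at hbig
    have h1 : Nat.card F ^ 3 ≤ 4 * X.relIndex S.PL := hbig.trans (Nat.mul_le_mul_left _ hMi)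
    have h2 : (Nat.card F ^ 3) ^ 5 ≤ (4 * X.relIndex S.PL) ^ 5 := Nat.pow_le_pow_left h1 5
    have h3 : (4 * X.relIndex S.PL) ^ 5 < 1024 * Nat.card F ^ 11 := by
      rw [mul_pow]
      norm_num
      exact hidx
    have h4 : 1024 ≤ Nat.card F ^ 4 := by
      calc 1024 ≤ 8 ^ 4 := by norm_num
        _ ≤ _ := Nat.pow_le_pow_left hq8 4
    have h5 : 1024 * Nat.card F ^ 11 ≤ Nat.card F ^ 4 * Nat.card F ^ 11 := Nat.mul_le_mul_right _ h4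
    have h6 : Nat.card F ^ 4 * Nat.card F ^ 11 = (Nat.card F ^ 3) ^ 5 := by ring
    omega

end Cfsg.Agent.H371.IFx.Tw
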