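import Cfsg.Agent.H371.IFx.TwDich
import Cfsg.Agent.H448.FprTwF.SzPair

/-!
# A subgroup `X` of small index of `PL = C(Z_4)` with `X Q = PL` is `PL` (helper371, S5719, row `²F₄`)
-/

set_option autoImplicit false
set_option linter.unusedSectionVars false

namespace Cfsg.Agent.H371.IFx.Tw

open Subgroup Cfsg
open Cfsg.Agent.SplitTwo Cfsg.Agent.SplitTwo.ZS Cfsg.Agent.TitsThree.RankTwoZ Cfsg.Agent.SplitTwo.RootSysZ
open Cfsg.Agent.KFacts.TwF4 Cfsg.Agent.KFacts.TwF4.Arc Cfsg.Agent.KFacts.TwF4.Irr Cfsg.Agent.KFacts.TwF4.Perf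
open Cfsg.Agent.KFacts.TwF4.Inv Cfsg.Agent.CpAutTwF.Pair Cfsg.Agent.CpAutTwF.Cent
open Cfsg.Agent.H496.TwFRad.Levi Cfsg.Agent.H496.TwEight Cfsg.Agent.H803.RankOneFacts
open scoped commutatorElement

theorem card_inf_mul {G : Type*} [Group G] (A B : Subgroup G) :
    Nat.card ↥(A ⊓ B) * A.relIndex B = Nat.card B := by
  have h1 := (A.subgroupOf B).card_mul_index
  have h2 : Nat.card (A.subgroupOf B) = Nat.card ↥(A ⊓ B) := by
    rw [← Subgroup.inf_subgroupOf_right]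
    exact Nat.card_congr (subgroupOfEquivOfLe inf_le_right).toEquiv
  rw [h2] at h1
  exact h1

theorem card_le_mul {G : Type*} [Group G] [Finite G] {A B C : Subgroup G} (h : B ≤ C) :
    Nat.card B ≤ Nat.card ↥(A ⊓ B) * A.relIndex C := by
  rw [← card_inf_mul A B]
  exact Nat.mul_le_mul_left _ (Subgroup.relIndex_le_of_le_right h (by
    rw [Subgroup.relIndex]
    exact Subgroup.index_ne_zero_of_finite))

variable {F : Type} [Field F] {σ : F →+* F} {G : Type} [Group G] (S : Full σ G)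
variable [Finite F] [Finite G]

theorem q2_inj {u s z t w : F} (h : q2 S u s z t w = 1) : u = 0 ∧ s = 0 ∧ z = 0 ∧ t = 0 ∧ w = 0 := by
  have Z8 := S.zsys8
  have m1 : ∀ u, S.e 1 0 u ∈ S.XZ 2 := fun u => (mem_X2 S).2 ⟨0, u, rfl⟩
  have m2 : ∀ u, S.o 1 u ∈ S.XZ 3 := fun u => (mem_X3 S).2 ⟨u, rfl⟩
  have m3 : ∀ u, S.e 2 0 u ∈ S.XZ 4 := fun u => (mem_X4 S).2 ⟨0, u, rfl⟩
  have m4 : ∀ u, S.o 2 u ∈ S.XZ 5 := fun u => (mem_X5 S).2 ⟨u, rfl⟩
  have m5 : ∀ u, S.e 3 0 u ∈ S.XZ 6 := fun u => (mem_X6 S).2 ⟨0, u, rfl⟩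
  unfold q2 at h
  have h1 : S.e 1 0 u = 1 := by
    refine Z8.inter 2 _ (m1 u) ?_
    have e : S.e 1 0 u = (S.o 1 s * S.e 2 0 z * S.o 2 t * S.e 3 0 w)⁻¹ := by
      rw [eq_inv_iff_mul_eq_one]
      simpa only [mul_assoc] using h
    rw [e]
    exact inv_mem (mul_mem (mul_mem (mul_mem (mem_J (m2 s) (by norm_num) (by norm_num))
      (mem_J (m3 z) (by norm_num) (by norm_num))) (mem_J (m4 t) (by norm_num) (by norm_num)))
      (mem_J (m5 w) (by norm_num) (by norm_num)))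
  rw [h1, one_mul] at h
  have h2 : S.o 1 s = 1 := by
    refine Z8.inter 3 _ (m2 s) ?_
    have e : S.o 1 s = (S.e 2 0 z * S.o 2 t * S.e 3 0 w)⁻¹ := by
      rw [eq_inv_iff_mul_eq_one]
      simpa only [mul_assoc] using h
    rw [e]
    exact inv_mem (mul_mem (mul_mem
      (mem_J (m3 z) (by norm_num) (by norm_num)) (mem_J (m4 t) (by norm_num) (by norm_num)))
      (mem_J (m5 w) (by norm_num) (by norm_num)))
  rw [h2, one_mul] at h
  have h3 : S.e 2 0 z = 1 := by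
    refine Z8.inter 4 _ (m3 z) ?_
    have e : S.e 2 0 z = (S.o 2 t * S.e 3 0 w)⁻¹ := by
      rw [eq_inv_iff_mul_eq_one]
      simpa only [mul_assoc] using h
    rw [e]
    exact inv_mem (mul_mem (mem_J (m4 t) (by norm_num) (by norm_num))
      (mem_J (m5 w) (by norm_num) (by norm_num)))
  rw [h3, one_mul] at h
  have h4 : S.o 2 t = 1 := by
    refine Z8.inter 5 _ (m4 t) ?_
    have e : S.o 2 t = (S.e 3 0 w)⁻¹ := by
      rw [eq_inv_iff_mul_eq_one]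
      exact h
    rw [e]
    exact inv_mem (mem_J (m5 w) (by norm_num) (by norm_num))
  rw [h4, one_mul] at h
  exact ⟨(S.e_eq_one h1).2, S.o_eq_one h2, (S.e_eq_one h3).2, S.o_eq_one h4, (S.e_eq_one h).2⟩

theorem card_Q2 : Nat.card S.Q2 = Nat.card F ^ 5 := by
  have e : F × F × F × F × F ≃ S.Q2 := by
    refine Equiv.ofBijective (fun a => ⟨q2 S a.1 a.2.1 a.2.2.1 a.2.2.2.1 a.2.2.2.2, (mem_Q2 S).2 ⟨_, _, _, _, _, rfl⟩⟩)
      ⟨?_, ?_⟩
    · rintro ⟨u, s, z, t, w⟩ ⟨u', s', z', t', w'⟩ h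
      have h1 : q2 S u s z t w = q2 S u' s' z' t' w' := congrArg Subtype.val h
      have h2 : q2 S (u + u') (s + s') (z + z') (t + t') (w + w') = 1 := by
        rw [← q2_mul, h1, q2_mul]
        simp only [char2 S, q2_zero]
      obtain ⟨k1, k2, k3, k4, k5⟩ := q2_inj S h2
      have key : ∀ a b : F, a + b = 0 → a = b := by
        intro a b hab
        have h3 : a + b + b = b := by rw [hab, zero_add]
        rwa [add_assoc, char2 S, add_zero] at h3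
      simp only [key _ _ k1, key _ _ k2, key _ _ k3, key _ _ k4, key _ _ k5]
    · rintro ⟨x, hx⟩
      obtain ⟨u, s, z, t, w, rfl⟩ := (mem_Q2 S).1 hx
      exact ⟨(u, s, z, t, w), rfl⟩
  rw [← Nat.card_congr e]
  simp only [Nat.card_prod]
  ring

theorem card_Zc_le : Nat.card (S.Zc 2) ≤ Nat.card F :=
  Nat.card_le_card_of_surjective (fun u : F => (⟨S.e 2 0 u, u, rfl⟩ : S.Zc 2)) (by
    rintro ⟨_, u, rfl⟩
    exact ⟨u, rfl⟩)

theorem X4_norm_Q2 {a b : G} (ha : a ∈ S.XZ 4) (hb : b ∈ S.Q2) : a * b * a⁻¹ ∈ S.Q2 :=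
  Layers.Q2_norm' S (X_le_J (by norm_num) (by norm_num) ha) hb

theorem form_Q1' {x : G} (hx : x ∈ S.Q1) : ∃ a ∈ S.XZ 4, ∃ b ∈ S.Q2, x = a * b :=
  mem_sup_of_norm (A := S.XZ 4) (B := S.Q2) (fun _ ha _ hb => X4_norm_Q2 S ha hb) hx

theorem card_Q1_le : Nat.card S.Q1 ≤ Nat.card F ^ 7 := by
  have h4 : Nat.card (S.XZ 4) = Nat.card F ^ 2 := by
    have := Cfsg.Agent.CpAutTwF.Card.card_even S 2
    norm_num at this
    rw [this]
    try ring
  have h1 : Nat.card S.Q1 ≤ Nat.card ((S.XZ 4) × S.Q2) := by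
    refine Nat.card_le_card_of_surjective
      (fun a : (S.XZ 4) × S.Q2 => (⟨a.1 * a.2, mul_mem (mem_sup_left a.1.2) (mem_sup_right a.2.2)⟩ : S.Q1)) ?_
    rintro ⟨x, hx⟩
    obtain ⟨a, ha, b, hb, rfl⟩ := form_Q1' S hx
    exact ⟨(⟨a, ha⟩, ⟨b, hb⟩), rfl⟩
  rw [Nat.card_prod, h4, card_Q2 S] at h1
  calc Nat.card S.Q1 ≤ _ := h1
    _ = _ := by ring

theorem case_a (hF : ∃ d : Fˣ, d ≠ 1) {X : Subgroup G} (hX : X ≤ S.PL)
    (hidx : X.relIndex S.PL ^ 5 < Nat.card F ^ 11)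
    (hcov : ∀ g ∈ S.PL, ∃ x ∈ X, ∃ c ∈ S.Q, g = x * c) : S.PL ≤ X := by
  have hq2 : 2 ≤ Nat.card F := Finite.one_lt_card_iff_nontrivial.2 ⟨⟨0, 1, zero_ne_one⟩⟩
  have hm3 : X.relIndex S.PL < Nat.card F ^ 3 := by
    by_contra hcon
    rw [not_lt] at hcon
    have h1 := Nat.pow_le_pow_left hcon 5
    have h2 : Nat.card F ^ 11 ≤ Nat.card F ^ 15 := Nat.pow_le_pow_right (by omega) (by norm_num)
    have h3 : (Nat.card F ^ 3) ^ 5 = Nat.card F ^ 15 := by ring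
    omega
  have hQPL : S.Q ≤ S.PL := fun _ h => Q_PL S h
  have hQ2Q : S.Q2 ≤ S.Q := Layers.Q2_le_Q S
  have hcomm : ∀ c ∈ S.Q, ∀ a ∈ S.Q, c * a * c⁻¹ * a⁻¹ ∈ S.Q2 := by
    intro c hc a ha
    rw [← Layers.comm_Q S]
    exact commutator_mem_commutator hc ha
  -- `(X ∩ Q) Q1 = Q`
  have hN1 : (X ⊓ S.Q) ⊔ S.Q1 = S.Q := by
    have hnorm : ∀ g ∈ S.PL, ∀ x ∈ (X ⊓ S.Q) ⊔ S.Q1, g * x * g⁻¹ ∈ (X ⊓ S.Q) ⊔ S.Q1 := by
      intro g hg
      obtain ⟨y, hy, c, hc, rfl⟩ := hcov g hg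
      have h1 : (X ⊓ S.Q) ⊔ S.Q1 ≤ ((X ⊓ S.Q) ⊔ S.Q1).comap (MulAut.conj (y * c)).toMonoidHom := by
        refine sup_le (fun a ha => ?_) (fun b hb => ?_)
        · show y * c * a * (y * c)⁻¹ ∈ (X ⊓ S.Q) ⊔ S.Q1
          have e : y * c * a * (y * c)⁻¹ = (y * (c * a * c⁻¹ * a⁻¹) * y⁻¹) * (y * a * y⁻¹) := by group
          rw [e]
          refine mul_mem (mem_sup_right (Q2_le_Q1 S (Layers.Q2_norm' S (hX hy) (hcomm c hc a ha.2)))) (mem_sup_left ⟨?_, ?_⟩)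
          · exact X.mul_mem (X.mul_mem hy ha.1) (X.inv_mem hy)
          · exact Q_norm S (hX hy) ha.2
        · exact mem_sup_right (Q1_norm S hg hb)
      exact fun x hx => h1 hx
    refine irr_two S le_sup_right (sup_le inf_le_right (Q1_le_Q S))
      (fun g hg => hnorm g (mem_J hg (by norm_num) (by norm_num)))
      (fun g hg => hnorm g (mem_J hg (by norm_num) (by norm_num))) ?_
    intro h
    have h1 : Nat.card ↥(X ⊓ S.Q) ≤ Nat.card F ^ 7 :=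
      (Subgroup.card_le_of_le (le_sup_left.trans h)).trans (card_Q1_le S)
    have h2 := card_le_mul (A := X) hQPL
    rw [Cfsg.Agent.H762.PL.card_Q S] at h2
    have h3 : Nat.card F ^ 7 * Nat.card F ^ 3 ≤ Nat.card F ^ 7 * X.relIndex S.PL := by
      calc Nat.card F ^ 7 * Nat.card F ^ 3 = Nat.card F ^ 10 := by ring
        _ ≤ _ := h2
        _ ≤ _ := Nat.mul_le_mul_right _ h1
    have h4 := Nat.le_of_mul_le_mul_left h3 (by positivity)
    omega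
  have hQform : ∀ c ∈ S.Q, ∃ a ∈ X ⊓ S.Q, ∃ b ∈ S.Q1, c = a * b := by
    intro c hc
    rw [← hN1] at hc
    exact mem_sup_of_norm (A := X ⊓ S.Q) (B := S.Q1) (fun a ha b hb => Q1_norm S (hQPL ha.2) hb) hc
  -- `(X ∩ Q2) Z4 = Q2`
  have hN2 : (X ⊓ S.Q2) ⊔ S.Zc 2 = S.Q2 := by
    have hZ2 : S.Zc 2 ≤ S.Q2 := by
      rintro _ ⟨u, rfl⟩
      exact S.q2_3 u
    have hnorm : ∀ g ∈ S.PL, ∀ x ∈ (X ⊓ S.Q2) ⊔ S.Zc 2, g * x * g⁻¹ ∈ (X ⊓ S.Q2) ⊔ S.Zc 2 := by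
      intro g hg
      obtain ⟨y, hy, c, hc, rfl⟩ := hcov g hg
      have h1 : (X ⊓ S.Q2) ⊔ S.Zc 2 ≤ ((X ⊓ S.Q2) ⊔ S.Zc 2).comap (MulAut.conj (y * c)).toMonoidHom := by
        refine sup_le (fun a ha => ?_) (fun b hb => ?_)
        · show y * c * a * (y * c)⁻¹ ∈ (X ⊓ S.Q2) ⊔ S.Zc 2
          obtain ⟨z, hz, h2⟩ := Cfsg.Agent.H448.FprTwF.PZ_Q S hc ha.2
          have h3 : y * z = z * y := S.comm_PL (hX hy) hz
          have e : y * c * a * (y * c)⁻¹ = z * (y * a * y⁻¹) := by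
            calc y * c * a * (y * c)⁻¹ = y * (c * a) * (y * c)⁻¹ := by group
              _ = (y * z) * a * y⁻¹ := by rw [h2]; group
              _ = _ := by rw [h3]; group
          rw [e]
          refine mul_mem (mem_sup_right hz) (mem_sup_left ⟨?_, ?_⟩)
          · exact X.mul_mem (X.mul_mem hy ha.1) (X.inv_mem hy)
          · exact Layers.Q2_norm' S (hX hy) ha.2
        · show y * c * b * (y * c)⁻¹ ∈ (X ⊓ S.Q2) ⊔ S.Zc 2
          rw [S.comm_PL hg hb, mul_inv_cancel_right]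
          exact mem_sup_right hb
      exact fun x hx => h1 hx
    refine irr_one S le_sup_right (sup_le inf_le_right hZ2)
      (fun g hg => hnorm g (mem_J hg (by norm_num) (by norm_num)))
      (fun g hg => hnorm g (mem_J hg (by norm_num) (by norm_num))) ?_
    intro h
    have h1 : Nat.card ↥(X ⊓ S.Q2) ≤ Nat.card F :=
      (Subgroup.card_le_of_le (le_sup_left.trans h)).trans (card_Zc_le S)
    have h2 := card_le_mul (A := X) (hQ2Q.trans hQPL)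
    rw [card_Q2 S] at h2
    have h3 : Nat.card F * Nat.card F ^ 4 ≤ Nat.card F * X.relIndex S.PL := by
      calc Nat.card F * Nat.card F ^ 4 = Nat.card F ^ 5 := by ring
        _ ≤ _ := h2
        _ ≤ _ := Nat.mul_le_mul_right _ h1
    have h4 := Nat.le_of_mul_le_mul_left h3 (by omega)
    have h5 : Nat.card F ^ 3 ≤ Nat.card F ^ 4 := Nat.pow_le_pow_right (by omega) (by norm_num)
    omega
  have hQ2form : ∀ c ∈ S.Q2, ∃ a ∈ X ⊓ S.Q2, ∃ b ∈ S.Zc 2, c = a * b := by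
    intro c hc
    rw [← hN2] at hc
    exact mem_sup_of_norm (A := X ⊓ S.Q2) (B := S.Zc 2) (fun a ha b hb => by
      rw [S.comm_PL (hX ha.1) hb, mul_inv_cancel_right]
      exact hb) hc
  -- `Z4 ≤ X`
  have hZ : S.Zc 2 ≤ X := by
    rintro _ ⟨v, rfl⟩
    have hr : S.o 0 1 * S.e 3 0 v = S.e 3 0 v * S.o 0 1 * S.e 2 0 v := by
      have r1 : S.o 0 1 * S.e 3 0 v = S.e 3 0 v * S.o 0 1 * S.e 1 0 (σ 1 * 0) * S.o 1 (1 * σ 0) *
          S.e 2 0 (1 * 0 * σ 0 + 1 * v) := S.o_e3 0 1 0 v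
      rwa [map_zero, mul_zero, mul_zero, mul_zero, zero_add, S.o_zero, S.e_zero, mul_one, mul_one, one_mul] at r1
    obtain ⟨a, ha, b, hb, hab⟩ := hQform _ (o0_Q S 1)
    obtain ⟨c, hc, z, hz, hcz⟩ := hQ2form _ (S.q2_5 v)
    rw [hab, hcz] at hr
    have k1 : b * c = c * b := S.Q1_comm hb hc.2
    have k2 : ∀ x ∈ S.PL, x * z = z * x := fun x hx => S.comm_PL hx hz
    have haP : a ∈ S.PL := hX ha.1
    have hbP : b ∈ S.PL := Q1_le_Q S |>.trans hQPL <| hb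
    have hcP : c ∈ S.PL := hX hc.1
    have hvP : S.e 2 0 v ∈ S.PL := (hQ2Q.trans hQPL) (S.q2_3 v)
    have h1 : a * c * (b * z) = c * a * S.e 2 0 v * (b * z) := by
      calc a * c * (b * z) = a * (c * b) * z := by group
        _ = a * b * (c * z) := by rw [← k1]; group
        _ = c * z * (a * b) * S.e 2 0 v := hr
        _ = c * (z * (a * b)) * S.e 2 0 v := by group
        _ = c * ((a * b) * z) * S.e 2 0 v := by rw [k2 (a * b) (mul_mem haP hbP)]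
        _ = c * a * b * (z * S.e 2 0 v) := by group
        _ = c * a * b * (S.e 2 0 v * z) := by rw [k2 _ hvP]
        _ = c * a * (b * S.e 2 0 v) * z := by group
        _ = c * a * (S.e 2 0 v * b) * z := by rw [S.comm_PL hbP ⟨v, rfl⟩]
        _ = _ := by group
    have h2 := mul_right_cancel h1
    have h3 : S.e 2 0 v = (c * a)⁻¹ * (a * c) := by rw [h2]; group
    rw [h3]
    exact mul_mem (inv_mem (mul_mem hc.1 ha.1)) (mul_mem ha.1 hc.1)
  have hQ2X : S.Q2 ≤ X := by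
    intro c hc
    obtain ⟨a, ha, b, hb, rfl⟩ := hQ2form c hc
    exact mul_mem ha.1 (hZ hb)
  have h4Q : S.XZ 4 ≤ S.Q := X_le_J (by norm_num) (by norm_num)
  -- `X_4` normalises `X`
  have h4n : ∀ a ∈ S.XZ 4, ∀ x ∈ X, a * x * a⁻¹ ∈ X := by
    intro a ha x hx
    obtain ⟨l, hl, c, hc, hlc⟩ := PL_split S (hX hx)
    have h1 : l * a = a * l := Cfsg.Agent.CpAutTwF.Five.L4_comm_X4 S hl ha
    have e : a * x * a⁻¹ = x * (c⁻¹ * a * c⁻¹⁻¹ * a⁻¹) := by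
      rw [hlc]
      calc a * (l * c) * a⁻¹ = (a * l) * c * a⁻¹ := by group
        _ = (l * a) * c * a⁻¹ := by rw [h1]
        _ = _ := by group
    rw [e]
    exact mul_mem hx (hQ2X (hcomm _ (inv_mem hc) _ (h4Q ha)))
  have hform : ∀ g ∈ S.PL, ∃ x ∈ X, ∃ a ∈ S.XZ 4, g = x * a := by
    intro g hg
    obtain ⟨x, hx, c, hc, rfl⟩ := hcov g hg
    obtain ⟨a, ha, b, hb, rfl⟩ := hQform c hc
    obtain ⟨b4, hb4, b2, hb2, rfl⟩ := form_Q1' S hb
    refine ⟨x * a * (b4 * b2 * b4⁻¹), mul_mem (mul_mem hx ha.1) (hQ2X (X4_norm_Q2 S hb4 hb2)), b4, hb4, by group⟩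
  rw [← PL_perfect S hF, Subgroup.commutator_le]
  intro g hg h hh
  obtain ⟨x, hx, a, ha, rfl⟩ := hform g hg
  obtain ⟨y, hy, b, hb, rfl⟩ := hform h hh
  have e : ⁅x * a, y * b⁆ = x * (a * y * a⁻¹) * (a * b * a⁻¹ * b⁻¹) * (b * x⁻¹ * b⁻¹) * y⁻¹ := by
    rw [commutatorElement_def]
    group
  rw [e]
  exact mul_mem (mul_mem (mul_mem (mul_mem hx (h4n a ha y hy)) (hQ2X (hcomm a (h4Q ha) b (h4Q hb))))
    (h4n b hb _ (inv_mem hx))) (inv_mem hy)

end Cfsg.Agent.H371.IFx.Tw
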