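import Cfsg.Agent.H371.IFx.TwFull
import Cfsg.Agent.H371.IFx.Base
import Cfsg.Agent.H999.IF.EngB
import Cfsg.Agent.H448.FprTwF.Gen
import Cfsg.Agent.H209.IF.Kill

/-!
# S5719: `²F₄(q)`, `q ≥ 8`, in coordinates (helper371)
-/

set_option autoImplicit false
set_option linter.unusedSectionVars false

namespace Cfsg.Agent.H371.IFx.Tw

open Subgroup Cfsg Cfsg.Agent.H209.Fxy Cfsg.Agent.H999.IFB
open Cfsg.Agent.SplitTwo Cfsg.Agent.SplitTwo.ZS Cfsg.Agent.TitsThree.RankTwoZ Cfsg.Agent.SplitTwo.RootSysZ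
open Cfsg.Agent.KFacts.TwF4 Cfsg.Agent.KFacts.TwF4.Arc Cfsg.Agent.KFacts.TwF4.Irr Cfsg.Agent.KFacts.TwF4.Perf
open Cfsg.Agent.KFacts.TwF4.Inv Cfsg.Agent.CpAutTwF.Pair Cfsg.Agent.CpAutTwF.Cent
open Cfsg.Agent.H496.TwFRad.Levi Cfsg.Agent.H496.TwEight Cfsg.Agent.H803.RankOneFacts Cfsg.Agent.H448.FprTwF

theorem mem_map_conj {G : Type*} [Group G] {A : Subgroup G} {g x : G} :
    x ∈ A.map (MulAut.conj g).toMonoidHom ↔ g⁻¹ * x * g ∈ A := by
  constructor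
  · rintro ⟨a, ha, rfl⟩
    have e : g⁻¹ * ((MulAut.conj g).toMonoidHom a) * g = a := by
      show g⁻¹ * (g * a * g⁻¹) * g = a
      group
    rw [e]
    exact ha
  · intro h
    exact ⟨_, h, by show g * (g⁻¹ * x * g) * g⁻¹ = x; group⟩

theorem index_map_conj {G : Type*} [Group G] {A : Subgroup G} (g : G) :
    (A.map (MulAut.conj g).toMonoidHom).index = A.index :=
  Subgroup.index_map_of_bijective (MulAut.conj g).bijective A

variable {F : Type} [Field F] {σ : F →+* F} {G : Type} [Group G] (S : Full σ G)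
variable [Finite F] [Finite G] [IsSimpleGroup G]

/-- what is needed about the orders -/
structure Num : Prop where
  hF : ∃ d : Fˣ, d ≠ 1
  hR : S.R.p = 2
  ex : ∃ k : ℕ, 3 ≤ k ∧ Nat.card F = 2 ^ k
  pl : S.PL.index < Nat.card F ^ 11
  ho : S.HO.index < Nat.card F ^ 15
  hna : ∃ a b : G, a * b ≠ b * a

variable {S} {A : Subgroup G} {Γ : Subgroup (MulAut G)}

theorem Num.q8 (N : Num S) : 8 ≤ Nat.card F := by
  obtain ⟨k, hk, h⟩ := N.ex
  rw [h]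
  calc 8 = 2 ^ 3 := by norm_num
    _ ≤ _ := Nat.pow_le_pow_right (by norm_num) hk

/-- the main inequality -/
theorem ineq (N : Num S) (h : IF A Γ) {z : G} (hzA : z ∈ A) (hz : z ∈ S.Zc 2) (hz1 : z ≠ 1) :
    (A ⊓ S.PL).relIndex S.PL ^ 5 < Nat.card F ^ 11 ∧ (A ⊓ S.PL).relIndex S.PL ^ 6 < A.index := by
  have ho : orderOf z = 2 := by
    obtain ⟨u, rfl⟩ := hz
    exact orderOf_eq_prime (by rw [pow_two]; exact z_sq S 2 u) hz1
  obtain ⟨-, -, -, -, h5⟩ := IF.E2' h N.hna hzA ho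
  rw [S.centralizer_z hz hz1] at h5
  obtain ⟨h6, h7⟩ := h5 S.PL le_rfl
  rw [Subgroup.inf_relIndex_right]
  exact ⟨h6.trans N.pl, h7⟩

theorem card_le_of_conj {X : Subgroup G} {l : G} (h : ∀ x ∈ X, l * x * l⁻¹ ∈ B4 S) :
    Nat.card X ≤ Nat.card (B4 S) :=
  Nat.card_le_card_of_injective (fun x : X => (⟨l * x * l⁻¹, h x x.2⟩ : B4 S)) fun a b hab => by
    have h1 : l * (a : G) * l⁻¹ = l * (b : G) * l⁻¹ := congrArg Subtype.val hab
    exact Subtype.ext (mul_left_cancel (mul_right_cancel h1))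

theorem relIndex_ge (N : Num S) {X : Subgroup G} (hX : X ≤ S.PL) {l : G} (h : ∀ x ∈ X, l * x * l⁻¹ ∈ B4 S) :
    Nat.card F ^ 2 + 1 ≤ X.relIndex S.PL := by
  have h1 := card_inf_mul X S.PL
  have h2 := card_inf_mul (B4 S) S.PL
  rw [inf_eq_left.2 hX] at h1
  rw [inf_eq_left.2 (B4_le_PL S)] at h2
  have h3 := card_le_of_conj h
  have h4 := relIndex_B4 S N.hF
  have h5 : 0 < Nat.card (B4 S) := Nat.card_pos
  have h6 : Nat.card (B4 S) * (B4 S).relIndex S.PL ≤ Nat.card (B4 S) * X.relIndex S.PL := by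
    calc Nat.card (B4 S) * (B4 S).relIndex S.PL = Nat.card X * X.relIndex S.PL := by rw [h1, h2]
      _ ≤ _ := Nat.mul_le_mul_right _ h3
  exact h4.trans (Nat.le_of_mul_le_mul_left h6 h5)

/-- `A` does not contain `C(Z_4)` -/
theorem not_le (N : Num S) (h : IF A Γ) (hle : S.PL ≤ A) : False := by
  have hq8 := N.q8
  have h' := h.map (S.ck (-1))
  obtain ⟨k, hk, hFk⟩ := N.ex
  have hidx : (A.map (S.ck (-1)).toMonoidHom).index = A.index := index_map_conj _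
  have hz : S.e 2 0 1 ∈ A.map (S.ck (-1)).toMonoidHom := by
    refine ⟨S.e 3 0 1, hle (mem_J (S.mX6 0 1) (by norm_num) (by norm_num)), ?_⟩
    show S.ck (-1) (S.e 3 0 1) = _
    rw [S.ck_e]
    congr 1
  have hz1 : S.e 2 0 1 ≠ 1 := fun e => one_ne_zero (S.e_eq_one e).2
  obtain ⟨i1, i2⟩ := ineq N h' hz ⟨1, rfl⟩ hz1
  rcases dich S N.hF N.hR hk hFk inf_le_right i1 with h1 | ⟨l, -, hl⟩
  · have h2 := case_a S N.hF inf_le_right i1 h1
    apply h'.ne_top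
    refine top_of_ten (S := S) (a := -2) ?_
    intro k hk1 hk2
    by_cases hk0 : k ≤ 6
    · have h3 : S.XZ (k + 2) ≤ A := (X_le_J (by omega) (by omega)).trans hle
      have h4 : (S.XZ (k + 2)).map (S.ck (-1)).toMonoidHom ≤ A.map (S.ck (-1)).toMonoidHom :=
        Subgroup.map_mono h3
      rw [S.map_X, show k + 2 + 2 * (-1) = k by ring] at h4
      exact h4
    · exact (X_le_J (by omega) (by omega)).trans (h2.trans inf_le_left)
  · have h3 := relIndex_ge N inf_le_right hl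
    have h4 : A.index ≤ S.PL.index :=
      Nat.le_of_dvd (Nat.pos_of_ne_zero Subgroup.index_ne_zero_of_finite) (Subgroup.index_dvd_of_le hle)
    have h5 : (Nat.card F ^ 2) ^ 6 < Nat.card F ^ 11 := by
      calc (Nat.card F ^ 2) ^ 6 ≤ ((A.map (S.ck (-1)).toMonoidHom) ⊓ S.PL).relIndex S.PL ^ 6 :=
            Nat.pow_le_pow_left (by omega) 6
        _ < (A.map (S.ck (-1)).toMonoidHom).index := i2
        _ = A.index := hidx
        _ ≤ S.PL.index := h4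
        _ < _ := N.pl
    rw [← pow_mul] at h5
    have h6 : Nat.card F ^ 11 ≤ Nat.card F ^ (2 * 6) := Nat.pow_le_pow_right (by omega) (by norm_num)
    omega

/-- `A ∩ C(Z_4)` lies in a Borel subgroup of `C(Z_4)` -/
theorem borel (N : Num S) (h : IF A Γ) {z : G} (hzA : z ∈ A) (hz : z ∈ S.Zc 2) (hz1 : z ≠ 1) :
    ∃ l ∈ L4 S, ∀ x ∈ A ⊓ S.PL, l * x * l⁻¹ ∈ B4 S := by
  obtain ⟨k, hk, hFk⟩ := N.ex
  obtain ⟨i1, -⟩ := ineq N h hzA hz hz1
  rcases dich S N.hF N.hR hk hFk inf_le_right i1 with h1 | h1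
  · exact (not_le N h ((case_a S N.hF inf_le_right i1 h1).trans inf_le_left)).elim
  · exact h1

/-- `A` meets all large subgroups of the Borel subgroup -/
theorem meets (N : Num S) (h : IF A Γ) {z : G} (hzA : z ∈ A) (hz : z ∈ S.Zc 2) (hz1 : z ≠ 1)
    (hB : A ⊓ S.PL ≤ B4 S) {Y : Subgroup G} (hY : Y ≤ B4 S) (hYc : Nat.card F ≤ Nat.card Y) :
    ∃ y ∈ A ⊓ Y, y ≠ 1 := by
  have hq8 := N.q8
  obtain ⟨i1, -⟩ := ineq N h hzA hz hz1
  have h1 : (A ⊓ S.PL).relIndex (B4 S) * (B4 S).relIndex S.PL = (A ⊓ S.PL).relIndex S.PL :=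
    Subgroup.relIndex_mul_relIndex _ _ _ hB (B4_le_PL S)
  have h2 := relIndex_B4 S N.hF
  have h3 : (A ⊓ S.PL).relIndex (B4 S) < Nat.card F := by
    by_contra hcon
    rw [not_lt] at hcon
    have h4 : Nat.card F * Nat.card F ^ 2 ≤ (A ⊓ S.PL).relIndex S.PL := by
      rw [← h1]
      exact Nat.mul_le_mul hcon (by omega)
    have h5 := Nat.pow_le_pow_left h4 5
    have h6 : (Nat.card F * Nat.card F ^ 2) ^ 5 = Nat.card F ^ 15 := by ring
    have h7 : Nat.card F ^ 11 ≤ Nat.card F ^ 15 := Nat.pow_le_pow_right (by omega) (by norm_num)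
    omega
  have h4 := card_le_mul (A := A ⊓ S.PL) hY
  by_contra hcon
  have h5 : (A ⊓ S.PL) ⊓ Y = ⊥ := by
    rw [Subgroup.eq_bot_iff_forall]
    intro y hy
    by_contra hy1
    exact hcon ⟨y, ⟨hy.1.1, hy.2⟩, hy1⟩
  rw [h5, Subgroup.card_bot, one_mul] at h4
  omega

theorem Zc1_card : Nat.card F ≤ Nat.card (S.Zc 1) :=
  Nat.card_le_card_of_injective (fun u : F => (⟨S.e 1 0 u, u, rfl⟩ : S.Zc 1)) fun a b h =>
    (S.injE 1 _ _ _ _ (congrArg Subtype.val h)).2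

theorem even_card (a : ℤ) : Nat.card F ≤ Nat.card (S.XZ (2 * a)) :=
  Nat.card_le_card_of_injective (fun u : F => (⟨S.e (a : ZMod 8) 0 u, S.e_mem a 0 u⟩ : S.XZ (2 * a))) fun a b h =>
    (S.injE _ _ _ _ _ (congrArg Subtype.val h)).2

/-- **no 2-central involution of `Z_4` in `A`** -/
theorem central (N : Num S) (h : IF A Γ) {z : G} (hzA : z ∈ A) (hz : z ∈ S.Zc 2) (hz1 : z ≠ 1) : False := by
  obtain ⟨l, hl, hlA⟩ := borel N h hzA hz hz1
  -- move to the standard Borel subgroup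
  have hlz : l * z = z * l := S.comm_PL (L4_le_PL S hl) hz
  have h1 := h.map (MulAut.conj l)
  set A1 := A.map (MulAut.conj l).toMonoidHom with hA1
  have hz1' : z ∈ A1 := by
    rw [hA1, mem_map_conj, mul_assoc, ← hlz, inv_mul_cancel_left]
    exact hzA
  have hB1 : A1 ⊓ S.PL ≤ B4 S := by
    intro x hxx
    have hx : x ∈ A1 := hxx.1
    have hxP : x ∈ S.PL := hxx.2
    rw [hA1, mem_map_conj] at hx
    have h2 := hlA _ ⟨hx, S.PL.mul_mem (S.PL.mul_mem (S.PL.inv_mem (L4_le_PL S hl)) hxP) (L4_le_PL S hl)⟩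
    have e : l * (l⁻¹ * x * l) * l⁻¹ = x := by group
    rwa [e] at h2
  obtain ⟨w, ⟨hwA, hw⟩, hw1⟩ := meets N h1 hz1' hz hz1 hB1 (Y := S.Zc 1) (by
    intro x hx
    exact U_le_B4 S (mem_J (S.Zc_le 1 hx) (by norm_num) (by norm_num))) Zc1_card
  have c6 := even_card (S := S) 3
  rw [show (2 * 3 : ℤ) = 6 by norm_num] at c6
  have c2 := even_card (S := S) 1
  rw [show (2 * 1 : ℤ) = 2 by norm_num] at c2
  obtain ⟨y, ⟨hyA, hy⟩, hy1⟩ := meets N h1 hz1' hz hz1 hB1 (Y := S.XZ 6)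
    ((X_le_J (by norm_num) (by norm_num)).trans (U_le_B4 S)) c6
  -- rotate
  have h2 := h1.map (S.ck 1)
  set A2 := A1.map (S.ck 1).toMonoidHom with hA2
  have hmem : ∀ x, x ∈ A1 → S.ck 1 x ∈ A2 := fun x hx => ⟨x, hx, rfl⟩
  have hw2 : S.ck 1 w ∈ S.Zc 2 := by
    obtain ⟨u, rfl⟩ := hw
    rw [S.ck_e]
    exact ⟨u, by congr 1⟩
  have hne : ∀ x : G, x ≠ 1 → S.ck 1 x ≠ 1 := fun x hx e => hx ((S.ck 1).injective (e.trans (map_one _).symm))
  have hy8 : S.ck 1 y ∈ S.XZ 8 := by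
    have h3 : S.ck 1 y ∈ (S.XZ 6).map (S.ck 1).toMonoidHom := ⟨y, hy, rfl⟩
    rw [S.map_X] at h3
    exact h3
  obtain ⟨l2, hl2, hl2A⟩ := borel N h2 (hmem w hwA) hw2 (hne w hw1)
  have hl2B : l2 ∈ B4 S := mem_B4_of_conj S N.hF hl2 hy8 (hne y hy1)
    (hl2A _ ⟨hmem y hyA, mem_J hy8 (by norm_num) (by norm_num)⟩)
  have hB2 : A2 ⊓ S.PL ≤ B4 S := by
    intro x hx
    have h3 := mul_mem (mul_mem (inv_mem hl2B) (hl2A x hx)) hl2B
    have e : l2⁻¹ * (l2 * x * l2⁻¹) * l2 = x := by group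
    rwa [e] at h3
  obtain ⟨v, ⟨hvA, hv⟩, hv1⟩ := meets N h2 (hmem w hwA) hw2 (hne w hw1) hB2 (Y := S.XZ 2)
    ((X_le_J (by norm_num) (by norm_num)).trans (U_le_B4 S)) c2
  obtain ⟨v', hv', rfl⟩ := hvA
  have hv0 : v' ∈ S.XZ 0 := by
    have h3 : S.ck 1 v' ∈ (S.XZ 0).map (S.ck 1).toMonoidHom := by
      rw [S.map_X]
      exact hv
    obtain ⟨v'', hv'', e⟩ := h3
    rwa [(S.ck 1).injective e] at hv''
  have h3 := X0_inf_B4 S hv0 (hB1 ⟨hv', mem_J hv0 le_rfl (by norm_num)⟩)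
  apply hv1
  rw [h3, map_one]

/-- an involution of `X_5` in `A` leads to a 2-central one -/
theorem noncentral (N : Num S) (h : IF A Γ) {s : F} (hs : s ≠ 0) (hsA : S.o 2 s ∈ A) :
    ∃ w ∈ A ⊓ S.W46, w ≠ 1 := by
  by_contra hcon
  have hW : ∀ w ∈ A, w ∈ S.W46 → w = 1 := by
    intro w hw hw'
    by_contra hw1
    exact hcon ⟨w, ⟨hw, hw'⟩, hw1⟩
  have ho : orderOf (S.o 2 s) = 2 :=
    orderOf_eq_prime (by rw [pow_two]; exact o_sq S 2 s) fun e => hs (S.o_eq_one e)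
  obtain ⟨-, -, -, -, h5⟩ := IF.E2' h N.hna hsA ho
  rw [S.centralizer_o hs] at h5
  -- `B = X_4 Z_6`
  have hxz : ∀ p u v, S.e 2 p u * S.e 3 0 v = S.e 3 0 v * S.e 2 p u := by
    intro p u v
    have h1 : S.e 2 p u * S.e 3 0 v = S.e 3 0 v * S.e 2 p u * S.o 2 (p * 0) := S.e_e1 2 p u 0 v
    rwa [mul_zero, S.o_zero, mul_one] at h1
  let B : Subgroup G :=
    { carrier := {g | ∃ p u v, g = S.e 2 p u * S.e 3 0 v}
      one_mem' := ⟨0, 0, 0, by rw [S.e_zero, S.e_zero, one_mul]⟩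
      mul_mem' := by
        rintro _ _ ⟨p, u, v, rfl⟩ ⟨p', u', v', rfl⟩
        refine ⟨p + p', u + u' + p * σ p', v + v', ?_⟩
        rw [← S.e_mul 2 p u p' u', ← S.e_mul_Zc]
        calc S.e 2 p u * S.e 3 0 v * (S.e 2 p' u' * S.e 3 0 v') =
            S.e 2 p u * (S.e 3 0 v * S.e 2 p' u') * S.e 3 0 v' := by group
          _ = S.e 2 p u * (S.e 2 p' u' * S.e 3 0 v) * S.e 3 0 v' := by rw [hxz]
          _ = _ := by group
      inv_mem' := by
        rintro _ ⟨p, u, v, rfl⟩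
        refine ⟨p, u + p * σ p, v, ?_⟩
        rw [mul_inv_rev, z_inv, e_inv, hxz] }
  have hB : B ≤ S.HO := by
    rintro _ ⟨p, u, v, rfl⟩
    rw [← S.centralizer_X5]
    exact mul_mem (S.X_cent (by norm_num) (by norm_num) (S.mX4 p u)) (S.X_cent (by norm_num) (by norm_num) (S.mX6 0 v))
  have hBc : Nat.card F ^ 3 ≤ Nat.card B := by
    have h1 : Nat.card (F × F × F) ≤ Nat.card B := by
      refine Nat.card_le_card_of_injective (fun a => (⟨S.e 2 a.1 a.2.1 * S.e 3 0 a.2.2, _, _, _, rfl⟩ : B)) ?_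
      rintro ⟨p, u, v⟩ ⟨p', u', v'⟩ hab
      have h2 : S.e 2 p u * S.e 3 0 v = S.e 2 p' u' * S.e 3 0 v' := congrArg Subtype.val hab
      have h3 : (S.e 2 p' u')⁻¹ * S.e 2 p u = S.e 3 0 v' * (S.e 3 0 v)⁻¹ := by
        rw [inv_mul_eq_iff_eq_mul, ← mul_assoc, ← h2, mul_inv_cancel_right]
      have h4 : (S.e 2 p' u')⁻¹ * S.e 2 p u = 1 := by
        refine S.X_inf_near (i := 4) (j := 6) (by norm_num) (by norm_num)
          (mul_mem (inv_mem (S.mX4 p' u')) (S.mX4 p u)) ?_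
        rw [h3]
        exact mul_mem (S.mX6 0 v') (inv_mem (S.mX6 0 v))
      rw [h4] at h3
      have h5 := S.injE 2 _ _ _ _ (inv_mul_eq_one.1 h4)
      have h6 := S.injE 3 _ _ _ _ (mul_inv_eq_one.1 h3.symm)
      rw [h5.1, h5.2, h6.2]
    rw [Nat.card_prod, Nat.card_prod] at h1
    calc Nat.card F ^ 3 = Nat.card F * (Nat.card F * Nat.card F) := by ring
      _ ≤ _ := h1
  have hAB : A ⊓ B = ⊥ := by
    rw [Subgroup.eq_bot_iff_forall]
    rintro _ ⟨hA, p, u, v, rfl⟩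
    have h1 : (S.e 2 p u * S.e 3 0 v) * (S.e 2 p u * S.e 3 0 v) = S.e 2 0 (p * σ p) := by
      calc (S.e 2 p u * S.e 3 0 v) * (S.e 2 p u * S.e 3 0 v) = S.e 2 p u * (S.e 3 0 v * S.e 2 p u) * S.e 3 0 v := by
            group
        _ = (S.e 2 p u * S.e 2 p u) * (S.e 3 0 v * S.e 3 0 v) := by rw [← hxz]; group
        _ = _ := by rw [e_sq, z_sq S 3 v, mul_one]
    have h2 := hW _ (h1 ▸ A.mul_mem hA hA) (S.Z4_W46 _)
    have h3 := (S.e_eq_one h2).2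
    have hp : p = 0 := by
      rcases mul_eq_zero.1 h3 with h4 | h4
      · exact h4
      · exact (map_eq_zero σ).1 h4
    subst hp
    exact hW _ hA (mul_mem (S.Z4_W46 u) (S.Z6_W46 v))
  have h1 := card_inf_mul A B
  rw [hAB, Subgroup.card_bot, one_mul] at h1
  have h2 := (h5 B hB).1
  rw [h1] at h2
  have h3 : (Nat.card F ^ 3) ^ 5 ≤ Nat.card B ^ 5 := Nat.pow_le_pow_left hBc 5
  have h4 := N.ho
  have h6 : (Nat.card F ^ 3) ^ 5 = Nat.card F ^ 15 := by ring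
  omega

/-- **`²F₄(q)`, `q ≥ 8`** -/
theorem row_full (N : Num S) (hin : ∀ τ : MulAut G, τ ^ 2 = 1 → ∃ g, τ = MulAut.conj g) (h : IF A Γ) : False := by
  obtain ⟨τ, hτ, ho, -⟩ := h.ex
  obtain ⟨t, rfl⟩ := hin τ (by rw [← ho]; exact pow_orderOf_eq_one τ)
  have htA : t ∈ A := (h.conj t).1 hτ
  have hto : orderOf t = 2 := by rw [← orderOf_conj N.hna t, ho]
  rcases Card.inv_cases S N.hF N.hR hto with ⟨g, u, hu, hg, -⟩ | ⟨g, s, hs, hg, -⟩
  · refine central N (h.map (MulAut.conj g⁻¹)) (z := S.e 2 0 u) ?_ ⟨u, rfl⟩ fun e => hu (S.e_eq_one e).2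
    rw [mem_map_conj, inv_inv, hg]
    exact htA
  · have h1 := h.map (MulAut.conj g⁻¹)
    obtain ⟨w, ⟨hwA, hw⟩, hw1⟩ := noncentral N h1 hs (by
      rw [mem_map_conj, inv_inv, hg]
      exact htA)
    obtain ⟨x, -, hx⟩ := Layers.W46_conj_Z S hw
    refine central N (h1.map (MulAut.conj x)) (z := x * w * x⁻¹) ⟨w, hwA, rfl⟩ hx fun e => hw1 ?_
    calc w = x⁻¹ * (x * w * x⁻¹) * x := by group
      _ = 1 := by rw [e]; group

end Cfsg.Agent.H371.IFx.Tw
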